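import Cfsg.Agent.Lib.Perm.AutAlternating

/-!
# Automorphisms of the alternating group of degree six fixing an element of order three
-/

set_option autoImplicit false
set_option maxRecDepth 100000

namespace CfsgLib.TwoSymFour

open Equiv

/-- A product of two disjoint 3-cycles. -/
def dbl : Perm (Fin 6) := swap 0 1 * swap 1 2 * (swap 3 4 * swap 4 5)

/-- An odd permutation centralising `dbl`. -/
def oddc : Perm (Fin 6) := swap 0 3 * swap 1 4 * swap 2 5

theorem dbl_facts : dbl.support.card = 6 ∧ dbl ^ 3 = 1 ∧ dbl ≠ 1 ∧ Perm.sign oddc = -1 ∧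
    oddc * dbl = dbl * oddc := by decide +kernel

theorem double_cycleType {σ : Perm (Fin 6)} (h3 : orderOf σ = 3) (hn : ¬ σ.IsThreeCycle) :
    σ.cycleType = Multiset.replicate 2 3 := by
  obtain ⟨n, hn'⟩ := Perm.cycleType_prime_order (σ := σ) (by rw [h3]; exact Nat.prime_three)
  rw [h3] at hn'
  have hsum := σ.sum_cycleType
  have hle : σ.support.card ≤ 6 := (Finset.card_le_univ _).trans_eq (Fintype.card_fin 6)
  rw [hn', Multiset.sum_replicate, smul_eq_mul] at hsum
  obtain rfl | rfl : n = 0 ∨ n = 1 := by omega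
  · exact absurd hn' hn
  · exact hn'

/-- In degree six the products of two 3-cycles form one class of the alternating group. -/
theorem isConj_of_double {σ τ : alternatingGroup (Fin 6)} (hσ : orderOf (σ : Perm (Fin 6)) = 3)
    (hσn : ¬ (σ : Perm (Fin 6)).IsThreeCycle) (hτ : orderOf (τ : Perm (Fin 6)) = 3)
    (hτn : ¬ (τ : Perm (Fin 6)).IsThreeCycle) : IsConj σ τ := by
  obtain ⟨hsupp, h1, h2, hodd, hcomm⟩ := dbl_facts
  have hd3 : orderOf dbl = 3 := orderOf_eq_prime h1 h2
  have hdn : ¬ dbl.IsThreeCycle := fun e => by rw [e.card_support] at hsupp; omega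
  have key : ∀ ρ : alternatingGroup (Fin 6), orderOf (ρ : Perm (Fin 6)) = 3 →
      ¬ (ρ : Perm (Fin 6)).IsThreeCycle →
      ∃ g : alternatingGroup (Fin 6), (g : Perm (Fin 6)) * dbl * (g : Perm (Fin 6))⁻¹ = ρ := by
    intro ρ h3 hn
    obtain ⟨c, hc⟩ := isConj_iff.mp (Perm.isConj_iff_cycleType_eq.mpr
      ((double_cycleType hd3 hdn).trans (double_cycleType h3 hn).symm))
    rcases Int.units_eq_one_or (Perm.sign c) with hs | hs
    · exact ⟨⟨c, Perm.mem_alternatingGroup.mpr hs⟩, hc⟩
    · refine ⟨⟨c * oddc, Perm.mem_alternatingGroup.mpr (by rw [map_mul, hs, hodd]; rfl)⟩, ?_⟩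
      show c * oddc * dbl * (c * oddc)⁻¹ = ρ
      rw [mul_assoc c, hcomm, ← hc]; group
  obtain ⟨a, ha⟩ := key σ hσ hσn
  obtain ⟨b, hb⟩ := key τ hτ hτn
  exact isConj_iff.mpr ⟨b * a⁻¹, Subtype.ext (by
    rw [Subgroup.coe_mul, Subgroup.coe_mul, Subgroup.coe_inv, Subgroup.coe_mul, Subgroup.coe_inv,
      ← ha, ← hb]; group)⟩

/-- An automorphism fixing an element of order 3 is induced by a permutation. -/
theorem aut_six (ψ : MulAut (alternatingGroup (Fin 6))) {Y : alternatingGroup (Fin 6)}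
    (hY : orderOf Y = 3) (hfix : ψ Y = Y) :
    ∃ σ : Perm (Fin 6), MulAut.conjNormal σ = ψ := by
  refine CfsgLib.AutAlternating.eq_conj_of_three (by norm_num) ψ fun x hx => ?_
  have hY' : orderOf (Y : Perm (Fin 6)) = 3 := by rw [Subgroup.orderOf_coe]; exact hY
  have hthree : ∀ a b : alternatingGroup (Fin 6), IsConj a b → (a : Perm (Fin 6)).IsThreeCycle →
      (b : Perm (Fin 6)).IsThreeCycle := by
    intro a b hab ha
    obtain ⟨c, rfl⟩ := isConj_iff.mp hab
    show (_ : Perm (Fin 6)).cycleType = {3}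
    rw [Subgroup.coe_mul, Subgroup.coe_mul, Subgroup.coe_inv, Perm.cycleType_conj]
    exact ha
  by_cases hY3 : (Y : Perm (Fin 6)).IsThreeCycle
  · have hc := (alternatingGroup.isThreeCycle_isConj (by rw [Nat.card_fin]; norm_num) hY3 hx)
    have := ψ.toMonoidHom.map_isConj hc
    exact hthree _ _ (hfix ▸ this) hY3
  · by_contra hn
    have ho : orderOf ((ψ x : alternatingGroup (Fin 6)) : Perm (Fin 6)) = 3 := by
      rw [Subgroup.orderOf_coe, MulEquiv.orderOf_eq, ← Subgroup.orderOf_coe]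
      exact hx.orderOf
    have hc := isConj_of_double hY' hY3 ho hn
    have := ψ.symm.toMonoidHom.map_isConj hc
    simp only [MulEquiv.coe_toMonoidHom, MulEquiv.symm_apply_apply] at this
    rw [show ψ.symm Y = Y from (ψ.symm_apply_eq.mpr hfix.symm)] at this
    exact hY3 (hthree _ _ this.symm hx)

end CfsgLib.TwoSymFour
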