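import Cfsg.Agent.Lib.TwoSymFour.Model
import Cfsg.Agent.Lib.BSW.Structure
import Cfsg.Agent.Lib.Transfer.Thompson

/-!
# A two-central involution with centraliser `Z/2 × S₄`: fusion and the subgroup of index two
-/

set_option autoImplicit false
set_option linter.style.haveILetI false
set_option linter.unusedSectionVars false

namespace CfsgLib.TwoSymFour

open CfsgLib.BSW

theorem cc_sq : ((cc, 1) : Mdl) * (cc, 1) = 1 := by decide +kernel

theorem two_cases : ∀ a : Multiplicative (ZMod 2), a = 1 ∨ a = cc := by decide +kernel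

variable {G : Type*} [Group G] [Finite G]

/-- The configuration: `ι` identifies the model with the centraliser of `ι (cc, 1)`, and the
centraliser of `ι (1, z0)` is a Sylow 2-subgroup of order 16 inside it. -/
structure Base (ι : Mdl →* G) : Prop where
  inj : Function.Injective ι
  cent : ∀ g, g * ι (cc, 1) = ι (cc, 1) * g ↔ g ∈ ι.range
  centz : ∀ g, g * ι (1, z0) = ι (1, z0) * g → g ∈ ι.range
  syl : ∀ P : Sylow 2 G, Nat.card P = 16

variable {ι : Mdl →* G}

theorem Base.comm_iff (h : Base ι) (p q : Mdl) : ι p * ι q = ι q * ι p ↔ p * q = q * p := by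
  rw [← map_mul, ← map_mul]; exact h.inj.eq_iff

theorem Base.isConj_map (_h : Base ι) {p q r : Mdl} (e : r * p * r⁻¹ = q) : IsConj (ι p) (ι q) :=
  isConj_iff.mpr ⟨ι r, by rw [← map_inv, ← map_mul, ← map_mul, e]⟩

/-- Counting inside the range. -/
theorem Base.card_of_range (h : Base ι) (Q : G → Prop) (hQ : ∀ g, Q g → g ∈ ι.range)
    [DecidablePred fun p : Mdl => Q (ι p)] :
    Nat.card {g // Q g} = (Finset.univ.filter fun p : Mdl => Q (ι p)).card := by
  rw [← Fintype.card_subtype, ← Nat.card_eq_fintype_card]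
  refine (Nat.card_eq_of_bijective (fun p : {p : Mdl // Q (ι p)} => (⟨ι p, p.2⟩ : {g // Q g}))
    ⟨fun a b e => Subtype.ext (h.inj (congrArg Subtype.val e)), ?_⟩).symm
  rintro ⟨g, hg⟩
  obtain ⟨p, rfl⟩ := hQ g hg
  exact ⟨⟨p, hg⟩, rfl⟩

theorem Base.card_cent_t (h : Base ι) : Nat.card (czer (ι (cc, 1))) = 48 := by
  have e : czer (ι (cc, 1)) = ι.range := by
    ext g; rw [mem_cent, h.cent]
  rw [e, ← Nat.card_congr (MonoidHom.ofInjective h.inj).toEquiv, card_mdl]

theorem Base.card_cent_z (h : Base ι) : Nat.card (czer (ι (1, z0))) = 16 := by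
  classical
  rw [Nat.card_congr (Equiv.subtypeEquivRight (fun g => mem_cent (y := ι (1, z0)) (g := g))),
    h.card_of_range _ h.centz, ← TwoSymFour.card_cent_z]
  exact congrArg Finset.card (Finset.filter_congr fun p _ => h.comm_iff p (1, z0))

theorem card_cent_of_isConj {x y : G} (h : IsConj x y) : Nat.card (czer y) = Nat.card (czer x) := by
  obtain ⟨g, rfl⟩ := isConj_iff.mp h
  rw [cent_conj, Subgroup.card_map_of_injective (MulEquiv.injective _)]

theorem Base.z_not_t (h : Base ι) : ¬ IsConj (ι (1, z0)) (ι (cc, 1)) := fun e => by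
  have := card_cent_of_isConj e
  rw [h.card_cent_t, h.card_cent_z] at this; omega

theorem Base.z_not_tz (h : Base ι) : ¬ IsConj (ι (1, z0)) (ι (cc, z0)) := by
  intro e
  have hcard := card_cent_of_isConj e
  obtain ⟨g, hg⟩ := isConj_iff.mp e
  rw [h.card_cent_z] at hcard
  have hle : czer (ι (1, z0)) ≤ czer (ι (cc, z0)) := by
    intro x hx
    rw [mem_cent] at hx ⊢
    obtain ⟨p, rfl⟩ := h.centz x hx
    rw [h.comm_iff] at hx ⊢
    rw [show ((cc, z0) : Mdl) = (cc, 1) * (1, z0) by simp, ← mul_assoc, ← central_cc, mul_assoc, hx,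
      mul_assoc]
  have heq : czer (ι (1, z0)) = czer (ι (cc, z0)) :=
    Subgroup.eq_of_le_of_card_ge hle (by rw [hcard, h.card_cent_z])
  have hmap : (czer (ι (1, z0))).map (MulAut.conj g).toMonoidHom = czer (ι (1, z0)) := by
    rw [← cent_conj, hg]; exact heq.symm
  obtain ⟨p, q, hp, hq, hpq⟩ := z_commutator
  have hmem : ∀ r : Mdl, r * (1, z0) = (1, z0) * r →
      ∃ r' : Mdl, r' * (1, z0) = (1, z0) * r' ∧ g * ι r * g⁻¹ = ι r' := by
    intro r hr
    have hr' : g * ι r * g⁻¹ ∈ czer (ι (1, z0)) := by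
      rw [← hmap, mem_map_conj]; exact mem_cent.mpr ((h.comm_iff _ _).mpr hr)
    obtain ⟨r', hr''⟩ := h.centz _ (mem_cent.mp hr')
    refine ⟨r', (h.comm_iff _ _).mp ?_, hr''.symm⟩
    rw [hr'']; exact mem_cent.mp hr'
  obtain ⟨p', hp', ep⟩ := hmem p hp
  obtain ⟨q', hq', eq'⟩ := hmem q hq
  have : ι (cc, z0) = ι (p' * q' * p'⁻¹ * q'⁻¹) := by
    rw [← hg, ← hpq]
    simp only [map_mul, map_inv, ← ep, ← eq']
    group
  have := h.inj this
  rcases commutator_cent_z p' q' hp' hq' with e' | e' <;> rw [e'] at this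
  exacts [z_facts.2.2.2 this, z_facts.2.2.1 this]

theorem Base.lift_u (h : Base ι) {a : Multiplicative (ZMod 2)}
    (e : IsConj (ι (a, u0)) (ι (cc, 1))) :
    IsConj (ι (1, z0)) (ι (1, u0)) ∨ IsConj (ι (1, z0)) (ι (cc, u0)) := by
  classical
  obtain ⟨g, hg⟩ := isConj_iff.mp e
  have hw : g * ι (1, z0) * g⁻¹ ∈ ι.range := by
    rw [← h.cent, ← hg]
    rw [show g * ι (1, z0) * g⁻¹ * (g * ι (a, u0) * g⁻¹) = g * (ι (1, z0) * ι (a, u0)) * g⁻¹ by group,
      show g * ι (a, u0) * g⁻¹ * (g * ι (1, z0) * g⁻¹) = g * (ι (a, u0) * ι (1, z0)) * g⁻¹ by group]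
    congr 2
    rw [← map_mul, ← map_mul]
    refine congrArg ι (Prod.ext ?_ ?_)
    · exact mul_comm _ _
    · show z0 * u0 = u0 * z0
      decide +kernel
  obtain ⟨p, hp⟩ := hw
  have hpp : p * p = 1 := h.inj (by
    rw [map_mul, hp, map_one,
      show g * ι (1, z0) * g⁻¹ * (g * ι (1, z0) * g⁻¹) = g * (ι (1, z0) * ι (1, z0)) * g⁻¹ by group,
      ← map_mul, z_facts.1, map_one]; group)
  have hcard : (Finset.univ.filter fun q : Mdl => q * p = p * q).card = 8 := by
    rw [← TwoSymFour.card_cent_zu a]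
    have e1 := h.card_of_range (fun x => x * ι (1, z0) = ι (1, z0) * x ∧ x * ι (a, u0) = ι (a, u0) * x)
      (fun x hx => h.centz x hx.1)
    have e2 := h.card_of_range (fun x => x * ι (cc, 1) = ι (cc, 1) * x ∧ x * ι p = ι p * x)
      (fun x hx => (h.cent x).mp hx.1)
    have e3 : Nat.card {x // x * ι (1, z0) = ι (1, z0) * x ∧ x * ι (a, u0) = ι (a, u0) * x} =
        Nat.card {x // x * ι (cc, 1) = ι (cc, 1) * x ∧ x * ι p = ι p * x} := by
      refine Nat.card_congr (Equiv.subtypeEquiv (MulAut.conj g).toEquiv fun x => ?_)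
      show _ ↔ g * x * g⁻¹ * ι (cc, 1) = ι (cc, 1) * (g * x * g⁻¹) ∧
        g * x * g⁻¹ * ι p = ι p * (g * x * g⁻¹)
      rw [hp, ← hg]
      have key : ∀ y : G, g * x * g⁻¹ * (g * y * g⁻¹) = g * y * g⁻¹ * (g * x * g⁻¹) ↔ x * y = y * x := by
        intro y
        rw [show g * x * g⁻¹ * (g * y * g⁻¹) = g * (x * y) * g⁻¹ by group,
          show g * y * g⁻¹ * (g * x * g⁻¹) = g * (y * x) * g⁻¹ by group, mul_left_inj, mul_right_inj]
      rw [key, key, and_comm]
    rw [e1, e2] at e3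
    refine Eq.trans ?_ (e3.symm.trans ?_)
    · refine congrArg Finset.card (Finset.filter_congr fun q _ => ?_)
      rw [h.comm_iff, h.comm_iff, ← central_cc q]; simp
    · exact congrArg Finset.card (Finset.filter_congr fun q _ => by rw [h.comm_iff, h.comm_iff])
  obtain ⟨q, hq | hq⟩ := involution_cent_eight p hpp hcard
  · exact Or.inl ((isConj_iff.mpr ⟨g, hp.symm⟩).trans (h.isConj_map hq))
  · exact Or.inr ((isConj_iff.mpr ⟨g, hp.symm⟩).trans (h.isConj_map hq))

theorem Base.exists_par (h : Base ι) :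
    ∃ ε : Bool, ¬ IsConj (ι ((if ε then cc else 1), u0)) (ι (cc, 1)) := by
  by_contra hno
  push Not at hno
  have h0 : IsConj (ι (1, u0)) (ι (cc, 1)) := hno false
  have h1 : IsConj (ι (cc, u0)) (ι (cc, 1)) := hno true
  rcases h.lift_u h0 with e | e
  exacts [h.z_not_t (e.trans h0), h.z_not_t (e.trans h1)]

theorem Base.exists_index_two (h : Base ι) :
    ∃ M : Subgroup G, M.Normal ∧ M.index = 2 ∧ ι (cc, 1) ∉ M := by
  classical
  haveI := Fact.mk Nat.prime_two
  obtain ⟨ε, hε⟩ := h.exists_par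
  set P := Sylow.ofCard (czer (ι (1, z0))) (by
    rw [h.card_cent_z, ← Sylow.card_eq_multiplicity (default : Sylow 2 G), h.syl]) with hP
  have hPc : (P : Subgroup G) = czer (ι (1, z0)) := Sylow.coe_ofCard _ _
  let χ : Mdl →* Multiplicative (ZMod 2) :=
    { toFun := par ε, map_one' := par_one ε, map_mul' := par_mul ε }
  set Q : Subgroup G := χ.ker.map ι ⊓ czer (ι (1, z0)) with hQ
  have hQmem : ∀ p, ι p ∈ Q ↔ par ε p = 1 ∧ p * (1, z0) = (1, z0) * p := by
    intro p
    rw [hQ, Subgroup.mem_inf, Subgroup.mem_map_iff_mem h.inj, mem_cent, h.comm_iff]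
    rfl
  have hQi : Q.relIndex (P : Subgroup G) = 2 := by
    have h2 : Nat.card (Q.subgroupOf (P : Subgroup G)) * Q.relIndex (P : Subgroup G) =
        Nat.card (P : Subgroup G) := (Q.subgroupOf (P : Subgroup G)).card_mul_index
    have hQc : Nat.card Q = 8 := by
      rw [Nat.card_congr (Equiv.subtypeEquivRight (fun g => (Iff.rfl : g ∈ Q ↔ g ∈ Q))),
        h.card_of_range (fun g => g ∈ Q) (fun g hg => h.centz g (mem_cent.mp hg.2)), ← card_par ε]
      exact congrArg Finset.card (Finset.filter_congr fun p _ => by rw [hQmem]; exact and_comm)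
    rw [Nat.card_congr (Subgroup.subgroupOfEquivOfLe (hPc ▸ inf_le_right : Q ≤ (P : Subgroup G))).toEquiv,
      hQc, hPc, h.card_cent_z] at h2
    rw [hPc]; omega
  refine (Transfer.thompson_transfer P hQi (u := ι (cc, 1)) ?_ ?_ ?_).resolve_right ?_
  · rw [← map_mul, cc_sq, map_one]
  · rw [hPc, mem_cent, h.comm_iff]; exact central_cc _
  · rw [hQmem]; exact fun e => (par_cc ε).2 ((par_cc ε).1.symm.trans e.1)
  · rintro ⟨g, -, hgQ⟩
    obtain ⟨p, hp⟩ := h.centz _ (mem_cent.mp hgQ.2)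
    rw [← hp, hQmem] at hgQ
    have hpp : p * p = 1 := h.inj (by
      rw [map_mul, hp, map_one,
        show g * ι (cc, 1) * g⁻¹ * (g * ι (cc, 1) * g⁻¹) = g * (ι (cc, 1) * ι (cc, 1)) * g⁻¹ by group,
        ← map_mul, cc_sq, map_one]; group)
    have hp1 : p ≠ 1 := fun e => cc_ne (h.inj (by
      rw [e, map_one] at hp
      rw [map_one]; exact conj_eq_one_iff.mp hp.symm))
    have hc : IsConj (ι p) (ι (cc, 1)) := (isConj_iff.mpr ⟨g, hp.symm⟩).symm
    obtain ⟨q, hq | hq⟩ := involution_par ε p hgQ.2 hgQ.1 hpp hp1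
    · exact h.z_not_t ((h.isConj_map hq).symm.trans hc)
    · exact hε ((h.isConj_map hq).symm.trans hc)

theorem Base.twist (h : Base ι) : Base (ι.comp twistEquiv.toMonoidHom) := by
  have e1 : (ι.comp twistEquiv.toMonoidHom) (cc, 1) = ι (cc, 1) := congrArg ι twist_fix.1
  have e2 : (ι.comp twistEquiv.toMonoidHom) (1, z0) = ι (1, z0) := congrArg ι twist_fix.2.1
  have e3 : (ι.comp twistEquiv.toMonoidHom).range = ι.range := by
    rw [MonoidHom.range_comp, MonoidHom.range_eq_top.mpr twistEquiv.surjective,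
      MonoidHom.range_eq_map]
  exact ⟨h.inj.comp twistEquiv.injective, fun g => by rw [e1, e3]; exact h.cent g,
    fun g hg => e3 ▸ h.centz g (e2 ▸ hg), h.syl⟩

/-- After a twist the subgroup of index two meets the centraliser in `1 × S₄`. -/
theorem Base.exists_normalised (h : Base ι) :
    ∃ (ι' : Mdl →* G) (M : Subgroup G), Base ι' ∧ ι' (cc, 1) = ι (cc, 1) ∧ M.Normal ∧ M.index = 2 ∧
      ∀ p, ι' p ∈ M ↔ p.1 = 1 := by
  obtain ⟨M, hM, hidx, ht⟩ := h.exists_index_two
  have key : ∀ ι' : Mdl →* G, ι' (cc, 1) ∉ M → ι' (1, u0) ∈ M → ∀ p, ι' p ∈ M ↔ p.1 = 1 := by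
    intro ι' ht' hu
    have h1 : ∀ σ : Equiv.Perm (Fin 4), ι' (1, σ) ∈ M := by
      intro σ
      induction σ using Equiv.Perm.swap_induction_on with
      | one =>
        show ι' (1 : Mdl) ∈ M
        rw [map_one]; exact M.one_mem
      | swap_mul f a b hab ih =>
        have e : ((1, Equiv.swap a b * f) : Mdl) = (1, Equiv.swap a b) * (1, f) := by simp
        rw [e, map_mul]
        refine M.mul_mem ?_ ih
        obtain ⟨g, hg⟩ := isConj_iff.mp (Equiv.Perm.isConj_swap (show (0 : Fin 4) ≠ 1 by decide) hab)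
        have e' : ((1, Equiv.swap a b) : Mdl) = (1, g) * (1, u0) * (1, g)⁻¹ := by
          rw [← hg]; simp [u0]
        rw [e', map_mul, map_mul, map_inv]
        exact hM.conj_mem _ hu _
    intro p
    obtain ⟨a, σ⟩ := p
    have e : ((a, σ) : Mdl) = (a, 1) * (1, σ) := by simp
    rcases two_cases a with rfl | rfl
    · exact ⟨fun _ => rfl, fun _ => h1 σ⟩
    · rw [e, map_mul, Subgroup.mul_mem_cancel_right M (h1 σ)]
      exact ⟨fun hh => absurd hh ht', fun hh => absurd hh (by simp [cc])⟩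
  by_cases hu : ι (1, u0) ∈ M
  · exact ⟨ι, M, h, rfl, hM, hidx, key ι ht hu⟩
  · refine ⟨_, M, h.twist, congrArg ι twist_fix.1, hM, hidx, key _ ?_ ?_⟩
    · show ι (TwoSymFour.twist (cc, 1)) ∉ M
      rw [twist_fix.1]; exact ht
    · show ι (TwoSymFour.twist (1, u0)) ∈ M
      rw [twist_fix.2.2, show ((cc, u0) : Mdl) = (cc, 1) * (1, u0) by simp, map_mul,
        Subgroup.mul_mem_iff_of_index_two hidx]
      exact iff_of_false ht hu

end CfsgLib.TwoSymFour
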