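import Cfsg.Agent.Lib.TwoSymFour.Split
import Cfsg.Agent.Lib.TwoSymFour.SixPerm
import Cfsg.Agent.S0497

/-!
# The case of a simple subgroup of index two
-/

set_option autoImplicit false
set_option maxRecDepth 100000
set_option linter.style.haveILetI false
set_option linter.unusedSectionVars false

namespace CfsgLib.TwoSymFour

open CfsgLib.BSW

theorem y_not_z : ((1, y0) : Mdl) * (1, z0) ≠ (1, z0) * (1, y0) := by decide +kernel

theorem center_model : ∀ p : Mdl, p * (1, u0) = (1, u0) * p → p * (1, y0) = (1, y0) * p →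
    p = 1 ∨ p = (cc, 1) := by decide +kernel

theorem card_outer_four : (Finset.univ.filter fun p : Mdl => p = (cc, 1) ∨
    (p * (1, z0) = (1, z0) * p ∧ ∃ q : Mdl, q * p * q⁻¹ = (cc, z0))).card = 4 := by decide +kernel

theorem card_inner : (Finset.univ.filter fun p : Mdl => p.1 = 1 ∧ p * p = 1 ∧ p ≠ 1).card = 9 := by
  decide +kernel

theorem central_z : ((cc, 1) : Mdl) * (1, z0) = (1, z0) * (cc, 1) := by decide +kernel

variable {G : Type*} [Group G] [Finite G] {ι : Mdl →* G}

/-- The size of a class times that of the centraliser. -/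
theorem card_class_cent (x : G) :
    Nat.card {w : G // IsConj x w} * Nat.card (czer x) = Nat.card G := by
  have e1 : {w : G // IsConj x w} ≃ MulAction.orbit (ConjAct G) x :=
    Equiv.subtypeEquivRight fun w => by rw [ConjAct.mem_orbit_conjAct, isConj_comm]
  have e2 : Nat.card (MulAction.stabilizer (ConjAct G) x) = Nat.card (czer x) :=
    (Nat.card_congr (Equiv.subtypeEquiv ConjAct.toConjAct.toEquiv fun g => by
      show g ∈ czer x ↔ ConjAct.toConjAct g ∈ MulAction.stabilizer (ConjAct G) x
      rw [MulAction.mem_stabilizer_iff, ConjAct.toConjAct_smul, mul_inv_eq_iff_eq_mul,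
        mem_cent])).symm
  rw [Nat.card_congr e1, Nat.card_congr (MulAction.orbitEquivQuotientStabilizer (ConjAct G) x), ← e2,
    mul_comm]
  exact (MulAction.stabilizer (ConjAct G) x).card_mul_index.trans
    (Nat.card_congr ConjAct.ofConjAct.toEquiv)

/-- The group is not soluble. -/
theorem Base.not_solvable (h : Base ι) (M : Subgroup G) (hmem : ∀ p, ι p ∈ M ↔ p.1 = 1)
    (hS : IsSimpleGroup M) : ¬ Group.IsSolvable G := by
  intro hsol
  haveI := hS
  haveI := hsol
  have hMs : Group.IsSolvable M :=
    Group.isSolvable_of_isSolvable_injective (f := M.subtype) M.subtype_injective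
  have := IsSimpleGroup.comm_iff_isSolvable.mpr hMs ⟨ι (1, y0), (hmem _).mpr rfl⟩
    ⟨ι (1, z0), (hmem _).mpr rfl⟩
  exact y_not_z ((h.comm_iff _ _).mp (congrArg Subtype.val this))

/-- The order 168 is impossible. -/
theorem Base.not_oneSixtyEight (h : Base ι) (M : Subgroup G) (hM : M.Normal) (hidx : M.index = 2)
    (hmem : ∀ p, ι p ∈ M ↔ p.1 = 1) (hS : IsSimpleGroup M)
    (hconj : ∀ x ∈ M, orderOf x = 2 → IsConj (ι (1, z0)) x) : Nat.card M ≠ 168 := by
  classical
  intro h168
  haveI := hS
  haveI := hM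
  letI := Fintype.ofFinite G
  set t := ι (cc, 1) with ht
  set z := ι (1, z0) with hz
  have hG : Nat.card G = 336 := by rw [← M.card_mul_index, h168, hidx]
  set s := Finset.univ.filter fun x : G => IsConj t x with hs
  set u := Finset.univ.filter fun x : G => IsConj z x with hu
  have hsc : s.card = 7 := by
    have := card_class_cent t
    rw [ht, h.card_cent_t, hG, Nat.card_eq_fintype_card, Fintype.card_subtype] at this
    change s.card * 48 = 336 at this
    omega
  have huc : u.card = 21 := by
    have := card_class_cent z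
    rw [hz, h.card_cent_z, hG, Nat.card_eq_fintype_card, Fintype.card_subtype] at this
    change u.card * 16 = 336 at this
    omega
  have key : ∀ (g a b : G), g * a * g⁻¹ * (g * b * g⁻¹) = g * b * g⁻¹ * (g * a * g⁻¹) ↔
      a * b = b * a := fun g a b => by
    rw [show g * a * g⁻¹ * (g * b * g⁻¹) = g * (a * b) * g⁻¹ by group,
      show g * b * g⁻¹ * (g * a * g⁻¹) = g * (b * a) * g⁻¹ by group, mul_left_inj, mul_right_inj]
  have hz1 : ∀ x ∈ s, (u.filter fun y => x * y = y * x).card = 9 := by
    intro x hx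
    obtain ⟨g, rfl⟩ := isConj_iff.mp (Finset.mem_filter.mp hx).2
    have e1 : (u.filter fun y => t * y = y * t).card = 9 := by
      rw [← card_inner, ← Fintype.card_subtype (fun p : Mdl => p.1 = 1 ∧ p * p = 1 ∧ p ≠ 1),
        ← Fintype.card_coe]
      have hiff : ∀ p : Mdl, ι p ∈ u.filter (fun y => t * y = y * t) ↔ (p.1 = 1 ∧ p * p = 1 ∧ p ≠ 1) := by
        intro p
        simp only [hu, Finset.mem_filter, Finset.mem_univ, true_and]
        constructor
        · rintro ⟨hc, -⟩
          have hord : orderOf (ι p) = 2 := by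
            obtain ⟨c, hc'⟩ := isConj_iff.mp hc
            rw [← hc', orderOf_conj, hz]
            exact orderOf_two_iff.mpr ⟨by rw [← map_mul, z_facts.1, map_one],
              fun e => z_facts.2.1 (h.inj (e.trans (map_one ι).symm))⟩
          obtain ⟨h1, h2⟩ := orderOf_two_iff.mp hord
          refine ⟨(hmem p).mp ?_, h.inj (by rw [map_mul, h1, map_one]), fun e => h2 (by rw [e, map_one])⟩
          obtain ⟨c, hc'⟩ := isConj_iff.mp hc
          rw [← hc']
          exact hM.conj_mem _ ((hmem _).mpr rfl) c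
        · rintro ⟨h1, h2, h3⟩
          refine ⟨hconj _ ((hmem p).mpr h1) (orderOf_two_iff.mpr
            ⟨by rw [← map_mul, h2, map_one], fun e => h3 (h.inj (e.trans (map_one ι).symm))⟩), ?_⟩
          exact (h.comm_iff _ _).mpr (central_cc p)
      refine (Fintype.card_congr (Equiv.ofBijective
        (fun p : {p : Mdl // p.1 = 1 ∧ p * p = 1 ∧ p ≠ 1} =>
          (⟨ι p.1, (hiff p.1).mpr p.2⟩ : (u.filter fun y => t * y = y * t)))
        ⟨fun a b e => Subtype.ext (h.inj (congrArg Subtype.val e)), fun y => ?_⟩)).symm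
      obtain ⟨p, hp⟩ := (h.cent y.1).mp (Finset.mem_filter.mp y.2).2.symm
      exact ⟨⟨p, (hiff p).mp (hp ▸ y.2)⟩, Subtype.ext hp⟩
    rw [← e1]
    refine (Finset.card_bij (fun y _ => g * y * g⁻¹) ?_ ?_ ?_).symm
    · intro y hy
      simp only [hu, Finset.mem_filter, Finset.mem_univ, true_and] at hy ⊢
      exact ⟨hy.1.trans (isConj_iff.mpr ⟨g, rfl⟩), (key g t y).mpr hy.2⟩
    · intro a _ b _ e; exact mul_left_cancel (mul_right_cancel e)
    · intro y hy
      simp only [hu, Finset.mem_filter, Finset.mem_univ, true_and] at hy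
      refine ⟨g⁻¹ * y * g, ?_, by group⟩
      simp only [hu, Finset.mem_filter, Finset.mem_univ, true_and]
      refine ⟨hy.1.trans (isConj_iff.mpr ⟨g⁻¹, by group⟩), (key g t _).mp ?_⟩
      rw [show g * (g⁻¹ * y * g) * g⁻¹ = y by group]; exact hy.2
  set N := (s.filter fun x => x * z = z * x).card with hN
  have hz2 : ∀ y ∈ u, (s.filter fun x => x * y = y * x).card = N := by
    intro y hy
    obtain ⟨g, rfl⟩ := isConj_iff.mp (Finset.mem_filter.mp hy).2
    refine (Finset.card_bij (fun x _ => g * x * g⁻¹) ?_ ?_ ?_).symm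
    · intro x hx
      simp only [hs, Finset.mem_filter, Finset.mem_univ, true_and] at hx ⊢
      exact ⟨hx.1.trans (isConj_iff.mpr ⟨g, rfl⟩), (key g x z).mpr hx.2⟩
    · intro a _ b _ e; exact mul_left_cancel (mul_right_cancel e)
    · intro y hy
      simp only [hs, Finset.mem_filter, Finset.mem_univ, true_and] at hy
      refine ⟨g⁻¹ * y * g, ?_, by group⟩
      simp only [hs, Finset.mem_filter, Finset.mem_univ, true_and]
      refine ⟨hy.1.trans (isConj_iff.mpr ⟨g⁻¹, by group⟩), (key g _ z).mp ?_⟩
      rw [show g * (g⁻¹ * y * g) * g⁻¹ = y by group]; exact hy.2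
  have hN3 : N = 3 := by
    have := Finset.sum_card_bipartiteAbove_eq_sum_card_bipartiteBelow (s := s) (t := u)
      (fun x y : G => x * y = y * x)
    simp only [Finset.bipartiteAbove, Finset.bipartiteBelow] at this
    rw [Finset.sum_congr rfl hz1, Finset.sum_congr rfl hz2, Finset.sum_const, Finset.sum_const, hsc,
      huc, smul_eq_mul, smul_eq_mul] at this
    omega
  have htt : IsConj t t := IsConj.refl _
  have hu0 : IsConj t (ι (cc, u0)) := by
    by_contra hnu
    by_cases hz0 : IsConj t (ι (cc, z0))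
    · have hle : (Finset.univ.filter fun p : Mdl => p = (cc, 1) ∨
          (p * (1, z0) = (1, z0) * p ∧ ∃ q : Mdl, q * p * q⁻¹ = (cc, z0))).card ≤ N := by
        refine Finset.card_le_card_of_injOn ι (fun p hp => ?_) h.inj.injOn
        simp only [Finset.mem_coe, Finset.mem_filter, Finset.mem_univ, true_and, hs] at hp ⊢
        rcases hp with rfl | ⟨hc, q, hq⟩
        · exact ⟨htt, (h.comm_iff _ _).mpr central_z⟩
        · exact ⟨hz0.trans (h.isConj_map hq).symm, (h.comm_iff _ _).mpr hc⟩
      rw [card_outer_four] at hle; omega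
    · have hle : s.filter (fun x => x * z = z * x) ⊆ {t} := by
        intro x hx
        simp only [Finset.mem_filter, Finset.mem_univ, true_and, hs] at hx
        obtain ⟨p, rfl⟩ := h.centz x hx.2
        obtain ⟨c, hc⟩ := isConj_iff.mp hx.1
        have hpp : p * p = 1 := h.inj (by
          rw [map_mul, ← hc, map_one, show c * t * c⁻¹ * (c * t * c⁻¹) = c * (t * t) * c⁻¹ by group,
            ht, ← map_mul, cc_sq, map_one]; group)
        have hp1 : p.1 = cc := (two_cases p.1).resolve_left fun e => by
          have h1 : c⁻¹ * ι p * (c⁻¹)⁻¹ ∈ M := hM.conj_mem _ ((hmem p).mpr e) c⁻¹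
          rw [← hc, show c⁻¹ * (c * t * c⁻¹) * (c⁻¹)⁻¹ = t by group, ht, hmem] at h1
          exact (par_cc false).2 h1
        rcases outer_t p hpp hp1 ((h.comm_iff _ _).mp hx.2) with rfl | ⟨q, hq⟩ | ⟨q, hq⟩
        · exact Finset.mem_singleton_self _
        · exact absurd (hx.1.trans (h.isConj_map hq)) hz0
        · exact absurd (hx.1.trans (h.isConj_map hq)) hnu
      have := Finset.card_le_card hle
      rw [Finset.card_singleton, ← hN] at this; omega
  have himg : (Finset.univ.filter fun p : Mdl =>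
      p = (cc, 1) ∨ ∃ q : Mdl, q * p * q⁻¹ = (cc, u0)).image ι = s := by
    refine Finset.eq_of_subset_of_card_le (fun x hx => ?_) ?_
    · obtain ⟨p, hp, rfl⟩ := Finset.mem_image.mp hx
      simp only [Finset.mem_filter, Finset.mem_univ, true_and, hs] at hp ⊢
      rcases hp with rfl | ⟨q, hq⟩
      exacts [htt, hu0.trans (h.isConj_map hq).symm]
    · rw [Finset.card_image_of_injective _ h.inj, card_outer_all, hsc]
  have hcomm : ∀ x, IsConj t x → x * t = t * x := by
    intro x hx
    have : x ∈ s := Finset.mem_filter.mpr ⟨Finset.mem_univ _, hx⟩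
    rw [← himg] at this
    obtain ⟨p, -, rfl⟩ := Finset.mem_image.mp this
    exact (h.comm_iff _ _).mpr (central_cc p).symm
  have hcomm2 : ∀ x y, IsConj t x → IsConj t y → x * y = y * x := by
    intro x y hx hy
    obtain ⟨g, rfl⟩ := isConj_iff.mp hy
    have := hcomm (g⁻¹ * x * g) (hx.trans (isConj_iff.mpr ⟨g⁻¹, by group⟩))
    rwa [← key g, show g * (g⁻¹ * x * g) * g⁻¹ = x by group] at this
  set K := Subgroup.normalClosure ({t} : Set G) with hK
  have hconjset : ∀ x ∈ Group.conjugatesOfSet ({t} : Set G), IsConj t x := by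
    intro x hx
    obtain ⟨a, rfl, ha⟩ := Group.mem_conjugatesOfSet_iff.mp hx
    exact ha
  have h1 : ∀ x ∈ Group.conjugatesOfSet ({t} : Set G), ∀ k ∈ K, k * x = x * k := by
    intro x hx
    have : K ≤ czer x := (Subgroup.closure_le _).mpr fun y hy =>
      mem_cent.mpr (hcomm2 y x (hconjset y hy) (hconjset x hx))
    exact fun k hk => mem_cent.mp (this hk)
  have hKcomm : ∀ k ∈ K, ∀ l ∈ K, l * k = k * l := by
    intro k hk
    have : K ≤ czer k := (Subgroup.closure_le _).mpr fun y hy => mem_cent.mpr (h1 y hy k hk).symm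
    exact fun l hl => mem_cent.mp (this hl)
  have htK : ∀ g, g * t * g⁻¹ ∈ K := fun g =>
    Subgroup.normalClosure_normal.conj_mem t (Subgroup.subset_normalClosure (Set.mem_singleton t)) g
  haveI : (K.subgroupOf M).Normal := Subgroup.Normal.subgroupOf (hK ▸ Subgroup.normalClosure_normal) M
  rcases Subgroup.Normal.eq_bot_or_eq_top (inferInstance : (K.subgroupOf M).Normal) with hb | hb
  · have hfix : ∀ g : G, g * t = t * g := by
      intro g
      have hgM : t * (g * t * g⁻¹) ∈ M := by
        have htM : t ∉ M := fun e => (par_cc false).2 ((hmem _).mp e)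
        rw [Subgroup.mul_mem_iff_of_index_two hidx]
        exact iff_of_false htM fun e => htM (by
          have := hM.conj_mem _ e g⁻¹
          rwa [show g⁻¹ * (g * t * g⁻¹) * (g⁻¹)⁻¹ = t by group] at this)
      have hgK : t * (g * t * g⁻¹) ∈ K := K.mul_mem (by simpa using htK 1) (htK g)
      have : (⟨_, hgM⟩ : M) ∈ K.subgroupOf M := Subgroup.mem_subgroupOf.mpr hgK
      rw [hb, Subgroup.mem_bot] at this
      have h2 : t * (g * t * g⁻¹) = 1 := congrArg Subtype.val this
      have htt' : t * t = 1 := by rw [ht, ← map_mul, cc_sq, map_one]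
      have h3 : g * t * g⁻¹ = t := mul_left_cancel (h2.trans htt'.symm)
      exact mul_inv_eq_iff_eq_mul.mp h3
    have : czer t = ⊤ := top_unique fun g _ => mem_cent.mpr (hfix g)
    have h2 := congrArg (fun H : Subgroup G => Nat.card H) this
    simp only [Subgroup.card_top, hG] at h2
    rw [ht, h.card_cent_t] at h2; omega
  · have hle : M ≤ K := Subgroup.subgroupOf_eq_top.mp hb
    exact y_not_z ((h.comm_iff _ _).mp
      (hKcomm _ (hle ((hmem (1, z0)).mpr rfl)) _ (hle ((hmem (1, y0)).mpr rfl))))

/-- The order 360 leads to the symmetric group of degree six. -/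
theorem Base.iso_six (h : Base ι) (M : Subgroup G) (hM : M.Normal) (hidx : M.index = 2)
    (hmem : ∀ p, ι p ∈ M ↔ p.1 = 1) (hS : IsSimpleGroup M) (h360 : Nat.card M = 360) :
    Nonempty (G ≃* Equiv.Perm (Fin 6)) := by
  classical
  haveI := hS
  haveI := hM
  set t := ι (cc, 1) with ht
  obtain ⟨i⟩ := Cfsg.Agent.S0497.result (G := M) h360
  let φ : G →* MulAut (alternatingGroup (Fin 6)) :=
    (MulAut.congr i).toMonoidHom.comp (MulAut.conjNormal : G →* MulAut M)
  have hφ : ∀ g (m : M), φ g (i m) = i (MulAut.conjNormal g m) := fun g m => by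
    show i (MulAut.conjNormal g (i.symm (i m))) = _
    rw [i.symm_apply_apply]
  have hinj : Function.Injective φ := by
    rw [injective_iff_map_eq_one]
    intro g hg
    have hcomm : ∀ m ∈ M, g * m = m * g := by
      intro m hm
      have := hφ g ⟨m, hm⟩
      rw [hg, MulAut.one_apply] at this
      have h1 := congrArg Subtype.val (i.injective this)
      rw [MulAut.conjNormal_apply] at h1
      exact mul_inv_eq_iff_eq_mul.mp h1.symm
    obtain ⟨p, rfl⟩ := h.centz g (hcomm _ ((hmem _).mpr rfl))
    rcases center_model p ((h.comm_iff _ _).mp (hcomm _ ((hmem _).mpr rfl)))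
      ((h.comm_iff _ _).mp (hcomm _ ((hmem _).mpr rfl))) with rfl | rfl
    · exact map_one ι
    · exfalso
      have : M ≤ czer t := fun m hm => mem_cent.mpr (hcomm m hm).symm
      have := Subgroup.card_dvd_of_le this
      rw [h360, ht, h.card_cent_t] at this
      omega
  have hy : orderOf (i (⟨ι (1, y0), (hmem _).mpr rfl⟩ : M)) = 3 := by
    rw [MulEquiv.orderOf_eq, ← Subgroup.orderOf_coe]
    show orderOf (ι (1, y0)) = 3
    rw [orderOf_injective ι h.inj, Prod.orderOf]
    rw [orderOf_one, Nat.lcm_one_left]; exact y_facts.2.1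
  obtain ⟨σt, hσt⟩ := aut_six (φ t) hy (by
    rw [hφ]; refine congrArg i (Subtype.ext ?_)
    rw [MulAut.conjNormal_apply]
    exact mul_inv_eq_iff_eq_mul.mpr ((h.comm_iff _ _).mpr (central_cc _)))
  have hM' : ∀ m : M, φ (m : G) =
      MulAut.conjNormal ((i m : alternatingGroup (Fin 6)) : Equiv.Perm (Fin 6)) := by
    intro m
    refine MulEquiv.ext fun x => ?_
    obtain ⟨n, rfl⟩ := i.surjective x
    rw [hφ]
    refine Subtype.ext ?_
    rw [MulAut.conjNormal_apply, show (MulAut.conjNormal (m : G) n : M) = m * n * m⁻¹ from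
      Subtype.ext (by rw [MulAut.conjNormal_apply]; rfl), map_mul, map_mul, map_inv]
    rfl
  have hrange : ∀ g, φ g ∈ (MulAut.conjNormal :
      Equiv.Perm (Fin 6) →* MulAut (alternatingGroup (Fin 6))).range := by
    intro g
    by_cases hg : g ∈ M
    · exact ⟨_, (hM' ⟨g, hg⟩).symm⟩
    · have htM : t ∉ M := fun e => (par_cc false).2 ((hmem _).mp e)
      have hgt : g * t ∈ M := (Subgroup.mul_mem_iff_of_index_two hidx).mpr (iff_of_false hg htM)
      have htt : t * t = 1 := by rw [ht, ← map_mul, cc_sq, map_one]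
      rw [show g = g * t * t by rw [mul_assoc, htt, mul_one], map_mul]
      exact mul_mem ⟨_, (hM' ⟨_, hgt⟩).symm⟩ ⟨σt, hσt⟩
  let χ : G →* Equiv.Perm (Fin 6) :=
    (MonoidHom.ofInjective (CfsgLib.AutAlternating.conjNormal_injective (n := 6) (by norm_num))).symm.toMonoidHom.comp
      (φ.codRestrict _ hrange)
  have hχ : Function.Injective χ := fun a b e =>
    hinj (congrArg Subtype.val ((MonoidHom.ofInjective
      (CfsgLib.AutAlternating.conjNormal_injective (n := 6) (by norm_num))).symm.injective e))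
  have hcard : Nat.card G = Nat.card (Equiv.Perm (Fin 6)) := by
    rw [← M.card_mul_index, h360, hidx, Nat.card_perm, Nat.card_fin]; rfl
  exact ⟨MulEquiv.ofBijective χ ((Nat.bijective_iff_injective_and_card χ).mpr ⟨hχ, hcard⟩)⟩

end CfsgLib.TwoSymFour
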