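import Cfsg.Agent.Lib.BSW.DihedralSylow
import Cfsg.Agent.Lib.BSW.Count
import Cfsg.Agent.Lib.BSW.Structure

/-!
# A dihedral Sylow 2-subgroup which is an involution centraliser
-/

set_option autoImplicit false
set_option linter.style.haveILetI false
set_option linter.unusedSectionVars false

namespace CfsgLib.TwoSymFour

open CfsgLib.BSW

variable {Γ : Type*} [Group Γ] [Finite Γ]

/-- If every involution of a Sylow centraliser is conjugate to `z`, all involutions are. -/
theorem conj_of_sylow_cent {z : Γ} (S : Sylow 2 Γ) (hS : (S : Subgroup Γ) = czer z)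
    (h : ∀ x ∈ czer z, orderOf x = 2 → IsConj z x) :
    ∀ x y : Γ, orderOf x = 2 → orderOf y = 2 → IsConj x y := by
  haveI := Fact.mk Nat.prime_two
  have key : ∀ x : Γ, orderOf x = 2 → IsConj z x := by
    intro x hx
    obtain ⟨T, hT⟩ := (IsPGroup.of_card (p := 2) (n := 1)
      (show Nat.card (Subgroup.zpowers x) = 2 ^ 1 by rw [Nat.card_zpowers, hx, pow_one])).exists_le_sylow
    obtain ⟨c, hc⟩ := MulAction.exists_smul_eq Γ T S
    have hm : c * x * c⁻¹ ∈ (S : Subgroup Γ) := by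
      rw [← hc]
      exact Subgroup.smul_mem_pointwise_smul _ (MulAut.conj c) _ (hT (Subgroup.mem_zpowers x))
    exact (h _ (hS ▸ hm) (by rw [orderOf_conj, hx])).trans (isConj_iff.mpr ⟨c⁻¹, by group⟩)
  exact fun x y hx hy => (key x hx).symm.trans (key y hy)

/-- The possible orders. -/
theorem order_of_dihedral_cent {n : ℕ} (hn : 2 ≤ n) {z : Γ} (hz : orderOf z = 2) (S : Sylow 2 Γ)
    (hS : (S : Subgroup Γ) = czer z) (e : (S : Subgroup Γ) ≃* DihedralGroup n)
    (hconj : ∀ x y : Γ, orderOf x = 2 → orderOf y = 2 → IsConj x y) :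
    Nat.card Γ = n * (2 * n + 1) * (2 * n + 2) ∨ Nat.card Γ = n * (2 * n - 1) * (2 * n - 2) := by
  classical
  have hzS : z ∈ (S : Subgroup Γ) := hS ▸ self_mem_cent z
  have hzZ : ∀ s ∈ (S : Subgroup Γ), s * z = z * s := fun s hs => mem_cent.mp (hS ▸ hs)
  obtain ⟨R, hR, hcyc, hidx, htR⟩ := exists_cyclic_of_dihedral hn _ e hz hzS hzZ
  obtain ⟨K, s, hset, -⟩ := Setting.of_dihedral hn S e hz ⊥ (by simp)
    (fun g hg => ⟨1, Subgroup.one_mem _, g, hS ▸ mem_cent.mpr hg, one_mul g⟩)
    (fun a ha => by rw [Subgroup.mem_bot.mp ha, one_mul, mul_one]) hzZ R hR hcyc hidx htR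
    (fun r _ a ha => by rw [Subgroup.mem_bot.mp ha, one_mul, mul_one])
    (fun s _ _ a ha => by rw [Subgroup.mem_bot.mp ha]; simp)
    (fun Y hY hY1 => absurd (le_bot_iff.mp hY) hY1) hconj
  have hk : Nat.card K = n := by
    have h1 := hset.card_centralizer
    change Nat.card (czer z) = _ at h1
    rw [← hS, Nat.card_congr e.toEquiv, DihedralGroup.nat_card] at h1
    omega
  haveI := Fintype.ofFinite Γ
  obtain ⟨q, ⟨hq, hG, -⟩ | ⟨hq, hG, -⟩⟩ := hset.counts
  · left; rw [hG, hq, hk]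
  · right
    rw [hk] at hq hG
    obtain rfl : q = 2 * n - 1 := by omega
    rw [hG, show 2 * n - 1 - 1 = 2 * n - 2 by omega]

theorem eq_one_of_odd_of_two_pow {N : Subgroup Γ} (hN : Odd (Nat.card N)) {x : Γ} (hx : x ∈ N)
    {k : ℕ} (hk : x ^ 2 ^ k = 1) : x = 1 := by
  have h2 : x ^ Nat.card N = 1 := congrArg Subtype.val (pow_card_eq_one' (x := (⟨x, hx⟩ : N)))
  have h3 := pow_gcd_eq_one.mpr ⟨hk, h2⟩
  rwa [((Nat.coprime_two_left.mpr hN).pow_left k).gcd_eq_one, pow_one] at h3

/-- With one class of involutions the group is simple. -/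
theorem isSimple_of_dihedral_cent [Nontrivial Γ] {z : Γ} (hz : orderOf z = 2) (S : Sylow 2 Γ)
    (hS : (S : Subgroup Γ) = czer z) (e : (S : Subgroup Γ) ≃* DihedralGroup 4)
    (hconj : ∀ x y : Γ, orderOf x = 2 → orderOf y = 2 → IsConj x y) : IsSimpleGroup Γ := by
  haveI := Fact.mk Nat.prime_two
  refine ⟨fun N hN => ?_⟩
  have hz1 : z ≠ 1 := (orderOf_two_iff.mp hz).2
  by_cases hev : Even (Nat.card N)
  · right
    obtain ⟨⟨x, hxN⟩, hx⟩ := exists_prime_orderOf_dvd_card' (G := N) 2 (even_iff_two_dvd.mp hev)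
    rw [Subgroup.orderOf_mk] at hx
    have hall : ∀ w : Γ, orderOf w = 2 → w ∈ N := by
      intro w hw
      obtain ⟨c, rfl⟩ := isConj_iff.mp (hconj x w hx hw)
      exact hN.conj_mem x hxN c
    have hgen : ∀ d : DihedralGroup 4, ∃ a b : DihedralGroup 4,
        a * a = 1 ∧ b * b = 1 ∧ a * b = d := by decide
    have hSN : (S : Subgroup Γ) ≤ N := by
      intro w hw
      obtain ⟨a, b, ha, hb, hab⟩ := hgen (e ⟨w, hw⟩)
      have hmem : ∀ a : DihedralGroup 4, a * a = 1 → ((e.symm a : (S : Subgroup Γ)) : Γ) ∈ N := by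
        intro a ha
        by_cases h1 : ((e.symm a : (S : Subgroup Γ)) : Γ) = 1
        · rw [h1]; exact N.one_mem
        · exact hall _ (orderOf_two_iff.mpr ⟨by rw [← Subgroup.coe_mul, ← map_mul, ha, map_one]; rfl, h1⟩)
      have := N.mul_mem (hmem a ha) (hmem b hb)
      rwa [← Subgroup.coe_mul, ← map_mul, hab, e.symm_apply_apply] at this
    have hnS : Subgroup.normalizer ((S : Subgroup Γ) : Set Γ) ≤ N := by
      intro g hg
      refine hSN (hS ▸ mem_cent.mpr ?_)
      have hcen : ∀ a b : DihedralGroup 4, a ≠ 1 → b ≠ 1 → (∀ x, x * a = a * x) →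
          (∀ x, x * b = b * x) → a = b := by decide
      have hzS : z ∈ (S : Subgroup Γ) := hS ▸ self_mem_cent z
      have hgz : g * z * g⁻¹ ∈ (S : Subgroup Γ) := (Subgroup.mem_normalizer_iff.mp hg z).mp hzS
      have heq : e ⟨g * z * g⁻¹, hgz⟩ = e ⟨z, hzS⟩ := by
        refine hcen _ _ (fun h => hz1 ?_) (fun h => hz1 ?_) (fun d => ?_) fun d => ?_
        · rw [map_eq_one_iff e e.injective, Subtype.ext_iff] at h
          exact conj_eq_one_iff.mp h
        · rwa [map_eq_one_iff e e.injective, Subtype.ext_iff] at h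
        · obtain ⟨⟨w, hw⟩, rfl⟩ := e.surjective d
          rw [← map_mul, ← map_mul]
          refine congrArg e (Subtype.ext ?_)
          have hgw : g⁻¹ * w * g ∈ (S : Subgroup Γ) := by
            rw [Subgroup.mem_normalizer_iff.mp hg, show g * (g⁻¹ * w * g) * g⁻¹ = w by group]
            exact hw
          show w * (g * z * g⁻¹) = g * z * g⁻¹ * w
          calc w * (g * z * g⁻¹) = g * (g⁻¹ * w * g * z) * g⁻¹ := by group
            _ = g * (z * (g⁻¹ * w * g)) * g⁻¹ := by rw [mem_cent.mp (show g⁻¹ * w * g ∈ czer z from hS ▸ hgw)]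
            _ = g * z * g⁻¹ * w := by group
        · obtain ⟨⟨w, hw⟩, rfl⟩ := e.surjective d
          rw [← map_mul, ← map_mul]
          exact congrArg e (Subtype.ext (mem_cent.mp (hS ▸ hw)))
      exact mul_inv_eq_iff_eq_mul.mp (congrArg Subtype.val (e.injective heq))
    haveI := hN
    exact top_le_iff.mp ((Sylow.normalizer_sup_eq_top' S hSN).ge.trans (sup_le hnS le_rfl))
  · left
    have hodd : Odd (Nat.card N) := Nat.not_even_iff_odd.mp hev
    have hinv : ∀ w : Γ, orderOf w = 2 → ∀ c ∈ N, w * c * w⁻¹ = c⁻¹ := by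
      intro w hw c hc
      let φ : N →* N :=
        { toFun := fun c => ⟨w * c * w⁻¹, hN.conj_mem _ c.2 w⟩
          map_one' := Subtype.ext (by simp)
          map_mul' := fun x y => Subtype.ext (show w * (x * y : Γ) * w⁻¹ =
            w * x * w⁻¹ * (w * y * w⁻¹) by group) }
      have hinvol : Function.Involutive φ := fun x => Subtype.ext (by
        show w * (w * x * w⁻¹) * w⁻¹ = x
        rw [show w * (w * (x : Γ) * w⁻¹) * w⁻¹ = (w * w) * x * (w * w)⁻¹ by group,
          (orderOf_two_iff.mp hw).1]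
        simp)
      have hfpf : MonoidHom.FixedPointFree φ := by
        intro x hx
        obtain ⟨g, hg⟩ := isConj_iff.mp (hconj w z hw hz)
        have e0 : w * (x : Γ) = x * w := mul_inv_eq_iff_eq_mul.mp (congrArg Subtype.val hx)
        have hm : g * (x : Γ) * g⁻¹ ∈ (S : Subgroup Γ) := by
          rw [hS, mem_cent, ← hg]
          calc g * (x : Γ) * g⁻¹ * (g * w * g⁻¹) = g * (x * w) * g⁻¹ := by group
            _ = g * (w * x) * g⁻¹ := by rw [e0]
            _ = g * w * g⁻¹ * (g * x * g⁻¹) := by group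
        obtain ⟨k, hk⟩ := S.2 ⟨_, hm⟩
        have := eq_one_of_odd_of_two_pow hodd (hN.conj_mem _ x.2 g) (congrArg Subtype.val hk)
        exact Subtype.ext (conj_eq_one_iff.mp this)
      exact congrArg Subtype.val (congrFun (hfpf.coe_eq_inv_of_involutive hinvol) ⟨c, hc⟩)
    refine (Subgroup.eq_bot_iff_forall _).mpr fun c hc => ?_
    obtain ⟨a, b, ha, hb, hab⟩ : ∃ a b : DihedralGroup 4, orderOf a = 2 ∧ orderOf b = 2 ∧
        orderOf (a * b) = 2 := by
      refine ⟨.sr 0, .sr 2, DihedralGroup.orderOf_sr _, DihedralGroup.orderOf_sr _, ?_⟩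
      exact orderOf_two_iff.mpr ⟨by decide, by decide⟩
    have ho : ∀ a : DihedralGroup 4, orderOf a = 2 →
        orderOf ((e.symm a : (S : Subgroup Γ)) : Γ) = 2 := fun a ha => by
      rw [Subgroup.orderOf_coe, MulEquiv.orderOf_eq, ha]
    have h3 := hinv _ (ho _ hab) c hc
    rw [map_mul, Subgroup.coe_mul, show ∀ p q : Γ, p * q * c * (p * q)⁻¹ = p * (q * c * q⁻¹) * p⁻¹ from
      fun p q => by group, hinv _ (ho b hb) c hc, hinv _ (ho a ha) _ (N.inv_mem hc), inv_inv] at h3
    by_contra h1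
    refine h1 (eq_one_of_odd_of_two_pow hodd hc (k := 1) ?_)
    rw [pow_one, pow_two]
    exact eq_inv_iff_mul_eq_one.mp h3

end CfsgLib.TwoSymFour
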