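import Mathlib

/-!
Finite facts about `Z/2 × S₄`.
-/

set_option autoImplicit false
set_option maxRecDepth 100000
set_option synthInstance.maxSize 4000
set_option synthInstance.maxHeartbeats 200000

namespace CfsgLib.TwoSymFour

open Equiv

/-- The model group. -/
abbrev Mdl : Type := Multiplicative (ZMod 2) × Perm (Fin 4)

/-- The nontrivial element of `Z/2`. -/
def cc : Multiplicative (ZMod 2) := Multiplicative.ofAdd 1

/-- A transposition. -/
def u0 : Perm (Fin 4) := swap 0 1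

/-- A double transposition centralised by `u0`. -/
def z0 : Perm (Fin 4) := swap 0 1 * swap 2 3

/-- Another double transposition. -/
def v0 : Perm (Fin 4) := swap 0 2 * swap 1 3

/-- A 3-cycle. -/
def y0 : Perm (Fin 4) := swap 0 1 * swap 1 2

/-- A rotation of the square `0 2 1 3`. -/
def ρ0 : Perm (Fin 4) := swap 0 2 * swap 2 1 * swap 1 3

/-- The two characters killing `z0`, not killing the central involution. -/
def par (ε : Bool) (p : Mdl) : Multiplicative (ZMod 2) :=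
  if ε && decide (Perm.sign p.2 = -1) then p.1 * cc else p.1

theorem card_mdl : Nat.card Mdl = 48 := by
  rw [Nat.card_eq_fintype_card]; rfl

theorem central : ∀ p : Mdl, p * p = 1 → p ≠ 1 → (∀ q, p * q = q * p) → p = (cc, 1) := by
  decide +kernel

theorem central_cc : ∀ q : Mdl, ((cc, 1) : Mdl) * q = q * (cc, 1) := by decide +kernel

theorem cc_ne : ((cc, 1) : Mdl) ≠ 1 := by decide +kernel

theorem z_facts : ((1, z0) : Mdl) * (1, z0) = 1 ∧ ((1, z0) : Mdl) ≠ 1 ∧
    ((cc, z0) : Mdl) ≠ (1, z0) ∧ ((cc, z0) : Mdl) ≠ 1 := by decide +kernel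

theorem card_cent_z :
    (Finset.univ.filter fun p : Mdl => p * (1, z0) = (1, z0) * p).card = 16 := by decide +kernel

theorem commutator_cent_z : ∀ p q : Mdl, p * (1, z0) = (1, z0) * p → q * (1, z0) = (1, z0) * q →
    p * q * p⁻¹ * q⁻¹ = 1 ∨ p * q * p⁻¹ * q⁻¹ = (1, z0) := by decide +kernel

theorem z_commutator : ∃ p q : Mdl, p * (1, z0) = (1, z0) * p ∧ q * (1, z0) = (1, z0) * q ∧
    p * q * p⁻¹ * q⁻¹ = (1, z0) := ⟨(1, u0), (1, v0), by decide +kernel⟩

theorem card_cent_zu : ∀ a : Multiplicative (ZMod 2), (Finset.univ.filter fun p : Mdl =>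
    p * (1, z0) = (1, z0) * p ∧ p * (a, u0) = (a, u0) * p).card = 8 := by decide +kernel

theorem involution_cent_eight : ∀ p : Mdl, p * p = 1 →
    (Finset.univ.filter fun q : Mdl => q * p = p * q).card = 8 →
    ∃ q : Mdl, q * p * q⁻¹ = (1, u0) ∨ q * p * q⁻¹ = (cc, u0) := by decide +kernel

theorem par_mul : ∀ ε : Bool, ∀ p q : Mdl, par ε (p * q) = par ε p * par ε q := by decide +kernel

theorem par_one : ∀ ε : Bool, par ε 1 = 1 := by decide +kernel

theorem par_cc : ∀ ε : Bool, par ε (cc, 1) = cc ∧ cc ≠ 1 := by decide +kernel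

theorem card_par : ∀ ε : Bool, (Finset.univ.filter fun p : Mdl =>
    p * (1, z0) = (1, z0) * p ∧ par ε p = 1).card = 8 := by decide +kernel

theorem involution_par : ∀ ε : Bool, ∀ p : Mdl, p * (1, z0) = (1, z0) * p → par ε p = 1 →
    p * p = 1 → p ≠ 1 →
    ∃ q : Mdl, q * p * q⁻¹ = (1, z0) ∨ q * p * q⁻¹ = ((if ε then cc else 1), u0) := by
  decide +kernel

/-- The sign twist. -/
def twist (p : Mdl) : Mdl := if Perm.sign p.2 = -1 then (p.1 * cc, p.2) else p

theorem twist_mul : ∀ p q : Mdl, twist (p * q) = twist p * twist q := by decide +kernel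

theorem twist_twist : ∀ p : Mdl, twist (twist p) = p := by decide +kernel

theorem twist_fix : twist (cc, 1) = (cc, 1) ∧ twist (1, z0) = (1, z0) ∧
    twist (1, u0) = (cc, u0) := by decide +kernel

/-- The automorphism of the sign twist. -/
def twistEquiv : Mdl ≃* Mdl where
  toFun := twist
  invFun := twist
  left_inv := twist_twist
  right_inv := twist_twist
  map_mul' := twist_mul

/-- The square. -/
def fd : DihedralGroup 4 → Perm (Fin 4)
  | .r i => ρ0 ^ i.val
  | .sr i => u0 * ρ0 ^ i.val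

theorem fd_mul : ∀ a b : DihedralGroup 4, fd (a * b) = fd a * fd b := by decide +kernel

theorem fd_inj : ∀ a b : DihedralGroup 4, fd a = fd b → a = b := by decide +kernel

theorem fd_range : ∀ σ : Perm (Fin 4), σ * z0 = z0 * σ ↔ ∃ d, fd d = σ := by decide +kernel

/-- The four group. -/
def fv : DihedralGroup 2 → Perm (Fin 4)
  | .r i => z0 ^ i.val
  | .sr i => v0 * z0 ^ i.val

theorem fv_mul : ∀ a b : DihedralGroup 2, fv (a * b) = fv a * fv b := by decide +kernel

theorem fv_inj : ∀ a b : DihedralGroup 2, fv a = fv b → a = b := by decide +kernel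

theorem fv_range : ∀ σ : Perm (Fin 4),
    σ * z0 = z0 * σ ∧ Perm.sign σ = 1 ↔ ∃ d, fv d = σ := by decide +kernel

theorem involution_sq : ∀ σ : Perm (Fin 4), σ * z0 = z0 * σ → σ * σ = 1 → σ ≠ 1 →
    ∃ τ : Perm (Fin 4), τ * σ * τ⁻¹ = z0 ∨ τ * σ * τ⁻¹ = u0 := by decide +kernel

theorem klein_conj : ∀ σ : Perm (Fin 4), σ * z0 = z0 * σ → Perm.sign σ = 1 → σ ≠ 1 →
    σ * σ = 1 ∧ ∃ τ : Perm (Fin 4), Perm.sign τ = 1 ∧ τ * σ * τ⁻¹ = z0 := by decide +kernel

theorem even_klein : ∀ σ : Perm (Fin 4), Perm.sign σ = 1 → σ * σ = 1 → σ * z0 = z0 * σ := by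
  decide +kernel

theorem alt_normal : ∀ σ τ : Perm (Fin 4), Perm.sign σ = 1 → σ * z0 = z0 * σ →
    (τ * σ * τ⁻¹) * z0 = z0 * (τ * σ * τ⁻¹) ∧ Perm.sign (τ * σ * τ⁻¹) = 1 := by decide +kernel

theorem alt_cent_v : ∀ σ : Perm (Fin 4), σ * z0 = z0 * σ → σ * v0 = v0 * σ → σ * u0 = u0 * σ →
    σ = 1 ∨ σ = z0 := by decide +kernel

theorem card_alt : (Finset.univ.filter fun σ : Perm (Fin 4) => Perm.sign σ = 1).card = 12 := by
  decide +kernel

theorem y_facts : Perm.sign y0 = 1 ∧ orderOf y0 = 3 ∧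
    ∀ σ : Perm (Fin 4), σ * z0 = z0 * σ → Perm.sign σ = 1 → σ * y0 = y0 * σ → σ = 1 := by
  refine ⟨by decide +kernel, ?_, by decide +kernel⟩
  exact orderOf_eq_prime (by decide +kernel) (by decide +kernel)

theorem card_involutions :
    (Finset.univ.filter fun σ : Perm (Fin 4) => σ * σ = 1 ∧ σ ≠ 1).card = 9 := by decide +kernel

theorem outer_t : ∀ p : Mdl, p * p = 1 → p.1 = cc → p * (1, z0) = (1, z0) * p →
    p = (cc, 1) ∨ (∃ q : Mdl, q * p * q⁻¹ = (cc, z0)) ∨ ∃ q : Mdl, q * p * q⁻¹ = (cc, u0) := by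
  decide +kernel

theorem card_outer : (Finset.univ.filter fun p : Mdl => p * (1, z0) = (1, z0) * p ∧
      ∃ q : Mdl, q * p * q⁻¹ = (cc, z0)).card = 3 ∧
    (Finset.univ.filter fun p : Mdl => p * (1, z0) = (1, z0) * p ∧
      ∃ q : Mdl, q * p * q⁻¹ = (cc, u0)).card = 2 := by decide +kernel

theorem card_outer_all : (Finset.univ.filter fun p : Mdl =>
      p = (cc, 1) ∨ ∃ q : Mdl, q * p * q⁻¹ = (cc, u0)).card = 7 := by decide +kernel

end CfsgLib.TwoSymFour
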