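import Cfsg.Agent.Lib.TwoSymFour.Split
import Cfsg.Agent.S4337

/-!
# The case of a subgroup of index four
-/

set_option autoImplicit false
set_option maxRecDepth 100000
set_option linter.style.haveILetI false
set_option linter.unusedSectionVars false

namespace CfsgLib.TwoSymFour

open CfsgLib.BSW

theorem card_klein : (Finset.univ.filter fun σ : Equiv.Perm (Fin 4) =>
    σ * z0 = z0 * σ ∧ Equiv.Perm.sign σ = 1).card = 4 := by decide +kernel

theorem klein_comm : ∀ σ σ' : Equiv.Perm (Fin 4), σ * z0 = z0 * σ → Equiv.Perm.sign σ = 1 →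
    σ' * z0 = z0 * σ' → Equiv.Perm.sign σ' = 1 → σ * σ' = σ' * σ := by decide +kernel

variable {G : Type*} [Group G] [Finite G] {ι : Mdl →* G}

/-- The order 60 is impossible. -/
theorem Base.not_sixty (h : Base ι) (M : Subgroup G) (hM : M.Normal) (hidx : M.index = 2)
    (hmem : ∀ p, ι p ∈ M ↔ p.1 = 1) (M₂ : Subgroup G) (hle : M₂ ≤ M)
    (hN : (M₂.subgroupOf M).Normal) (hi4 : M₂.index = 4)
    (hM₂ : ∀ σ, ι (1, σ) ∈ M₂ ↔ Equiv.Perm.sign σ = 1) : Nat.card M₂ ≠ 60 := by
  classical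
  intro h60
  haveI := hM
  set t := ι (cc, 1) with ht
  have htt : t * t = 1 := by rw [ht, ← map_mul, cc_sq, map_one]
  have hti : t⁻¹ = t := inv_eq_of_mul_eq_one_right htt
  have hrel : M₂.relIndex M = 2 := by
    have := Subgroup.relIndex_mul_index hle
    rw [hidx, hi4] at this; omega
  -- the centralised part
  set A : Subgroup M₂ := (czer t).subgroupOf M₂ with hA
  have hAmem : ∀ x : M₂, x ∈ A ↔ (x : G) * t = t * (x : G) := fun x => by
    rw [hA, Subgroup.mem_subgroupOf, mem_cent]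
  let E : ∀ σ : Equiv.Perm (Fin 4), Equiv.Perm.sign σ = 1 → M₂ := fun σ hσ =>
    ⟨ι (1, σ), (hM₂ σ).mpr hσ⟩
  have hEA : ∀ σ hσ, E σ hσ ∈ A := fun σ hσ => by
    rw [hAmem]; exact (h.comm_iff _ _).mpr (central_cc _).symm
  have hArep : ∀ x ∈ A, ∃ σ, ∃ hσ : Equiv.Perm.sign σ = 1, E σ hσ = x := by
    intro x hx
    obtain ⟨⟨a, σ⟩, hp⟩ := (h.cent x).mp ((hAmem x).mp hx)
    have ha : a = 1 := (hmem (a, σ)).mp (hle (hp ▸ x.2))
    subst ha
    exact ⟨σ, (hM₂ σ).mp (hp ▸ x.2), Subtype.ext hp⟩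
  have hAcard : Nat.card A = 12 := by
    rw [← card_alt, ← Fintype.card_subtype, ← Nat.card_eq_fintype_card]
    refine (Nat.card_eq_of_bijective
      (fun σ : {σ : Equiv.Perm (Fin 4) // Equiv.Perm.sign σ = 1} => (⟨E σ.1 σ.2, hEA σ.1 σ.2⟩ : A))
      ⟨fun a b e => Subtype.ext (congrArg Prod.snd (h.inj (congrArg (fun y : A => ((y : M₂) : G)) e))),
        fun x => ?_⟩).symm
    obtain ⟨σ, hσ, e⟩ := hArep x.1 x.2
    exact ⟨⟨σ, hσ⟩, Subtype.ext e⟩
  -- the four group
  set zH : M₂ := E z0 z0_sign with hzH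
  have hVrep : ∀ v ∈ czer zH, ∃ σ, ∃ hσ : Equiv.Perm.sign σ = 1,
      E σ hσ = v ∧ σ * z0 = z0 * σ := by
    intro v hv
    have hv' : (v : G) * ι (1, z0) = ι (1, z0) * (v : G) := congrArg Subtype.val (mem_cent.mp hv)
    obtain ⟨⟨a, σ⟩, hp⟩ := h.centz _ hv'
    have ha : a = 1 := (hmem (a, σ)).mp (hle (hp ▸ v.2))
    subst ha
    refine ⟨σ, (hM₂ σ).mp (hp ▸ v.2), Subtype.ext hp, ?_⟩
    rw [← hp, h.comm_iff] at hv'
    exact congrArg Prod.snd hv'
  have hVA : czer zH ≤ A := fun v hv => by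
    obtain ⟨σ, hσ, e, -⟩ := hVrep v hv; exact e ▸ hEA σ hσ
  have hEV : ∀ σ hσ, σ * z0 = z0 * σ → E σ hσ ∈ czer zH := fun σ hσ hc => by
    rw [mem_cent]
    refine Subtype.ext ((h.comm_iff _ _).mpr ?_)
    exact Prod.ext rfl hc
  have hVcard : Nat.card (czer zH) = 4 := by
    rw [← card_klein, ← Fintype.card_subtype, ← Nat.card_eq_fintype_card]
    refine (Nat.card_eq_of_bijective
      (fun σ : {σ : Equiv.Perm (Fin 4) // σ * z0 = z0 * σ ∧ Equiv.Perm.sign σ = 1} =>
        (⟨E σ.1 σ.2.2, hEV σ.1 σ.2.2 σ.2.1⟩ : czer zH))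
      ⟨fun a b e => Subtype.ext (congrArg Prod.snd
        (h.inj (congrArg (fun y : czer zH => ((y : M₂) : G)) e))),
        fun x => ?_⟩).symm
    obtain ⟨σ, hσ, e, hc⟩ := hVrep x.1 x.2
    exact ⟨⟨σ, hc, hσ⟩, Subtype.ext e⟩
  have hVcomm : ∀ v ∈ czer zH, ∀ w ∈ czer zH, v * w = w * v := by
    intro v hv w hw
    obtain ⟨σ, hσ, rfl, hc⟩ := hVrep v hv
    obtain ⟨σ', hσ', rfl, hc'⟩ := hVrep w hw
    exact Subtype.ext ((h.comm_iff _ _).mpr (Prod.ext rfl (klein_comm σ σ' hc hσ hc' hσ')))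
  -- `t` normalises the subgroup
  have hstable : ∀ x ∈ M₂, t * x * t ∈ M₂ := by
    intro x hx
    have hxM : ∀ y ∈ M, t * y * t ∈ M := fun y hy => by
      have := hM.conj_mem y hy t; rwa [hti] at this
    set W := M₂ ⊓ M₂.map (MulAut.conj t).toMonoidHom with hW
    have hWmem : ∀ y, y ∈ W ↔ y ∈ M₂ ∧ t * y * t ∈ M₂ := fun y => by
      rw [hW, Subgroup.mem_inf, Subgroup.mem_map]
      refine and_congr_right fun _ => ⟨?_, fun hy => ⟨_, hy, ?_⟩⟩
      · rintro ⟨w, hw, rfl⟩
        show t * (t * w * t⁻¹) * t ∈ M₂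
        rwa [hti, show t * (t * w * t) * t = (t * t) * w * (t * t) by simp [mul_assoc], htt, one_mul,
          mul_one]
      · show t * (t * y * t) * t⁻¹ = y
        rw [hti, show t * (t * y * t) * t = (t * t) * y * (t * t) by simp [mul_assoc], htt, one_mul,
          mul_one]
    have hWle : W ≤ M₂ := inf_le_left
    have h2 : W.relIndex M₂ ∣ 2 := by
      rw [hW, Subgroup.inf_relIndex_left]
      have hmapM : M.map (MulAut.conj t).toMonoidHom = M := by
        refine le_antisymm ?_ fun y hy => ⟨t * y * t, hxM y hy, ?_⟩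
        · rintro _ ⟨y, hy, rfl⟩; exact hM.conj_mem y hy t
        · show t * (t * y * t) * t⁻¹ = y
          rw [hti, show t * (t * y * t) * t = (t * t) * y * (t * t) by simp [mul_assoc], htt, one_mul,
            mul_one]
      set N' := M₂.map (MulAut.conj t).toMonoidHom with hN'
      have hN'le : N' ≤ M := hmapM ▸ Subgroup.map_mono hle
      have hN'i : N'.relIndex M = 2 := by
        rw [← hmapM, hN', Subgroup.relIndex_map_map_of_injective _ _ (MulEquiv.injective _)]
        exact hrel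
      haveI : (N'.subgroupOf M).Normal := Subgroup.normal_of_index_eq_two hN'i
      have hd := Subgroup.relIndex_dvd_index_of_normal (N'.subgroupOf M) (M₂.subgroupOf M)
      rwa [Subgroup.relIndex_subgroupOf hle, show (N'.subgroupOf M).index = 2 from hN'i] at hd
    rcases (Nat.dvd_prime Nat.prime_two).mp h2 with h1 | h1
    · exact ((hWmem x).mp (Subgroup.relIndex_eq_one.mp h1 hx)).2
    · exfalso
      have hcW : Nat.card W = 30 := by
        have := (W.subgroupOf M₂).card_mul_index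
        rw [Nat.card_congr (Subgroup.subgroupOfEquivOfLe hWle).toEquiv, h60] at this
        change Nat.card W * W.relIndex M₂ = 60 at this
        rw [h1] at this; omega
      have hVW : (czer zH).map M₂.subtype ≤ W := by
        rintro _ ⟨v, hv, rfl⟩
        refine (hWmem _).mpr ⟨v.2, ?_⟩
        have := (hAmem v).mp (hVA hv)
        show t * (v : G) * t ∈ M₂
        rw [← this, mul_assoc, htt, mul_one]; exact v.2
      have := Subgroup.card_dvd_of_le hVW
      rw [Subgroup.card_map_of_injective M₂.subtype_injective, hVcard, hcW] at this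
      omega
  let T : M₂ →* M₂ := MonoidHom.mk' (fun x => ⟨t * (x : G) * t, hstable _ x.2⟩) fun x y =>
    Subtype.ext (by
      show t * ((x : G) * (y : G)) * t = t * (x : G) * t * (t * (y : G) * t)
      rw [show t * (x : G) * t * (t * (y : G) * t) = t * (x : G) * (t * t) * ((y : G) * t) by
        simp [mul_assoc], htt, mul_one]
      simp [mul_assoc])
  have hTA : ∀ x : M₂, x ∈ A ↔ T x = x := fun x => by
    rw [hAmem, Subtype.ext_iff]
    show _ ↔ t * (x : G) * t = x
    constructor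
    · intro e; rw [← e, mul_assoc, htt, mul_one]
    · intro e
      calc (x : G) * t = t * (x : G) * t * t := by rw [e]
        _ = t * (x : G) := by rw [mul_assoc, htt, mul_one]
  have hTT : ∀ x, T (T x) = x := fun x => Subtype.ext (by
    show t * (t * (x : G) * t) * t = x
    rw [show t * (t * (x : G) * t) * t = (t * t) * (x : G) * (t * t) by simp [mul_assoc], htt,
      one_mul, mul_one])
  -- the four group is semiregular outside
  have hsemi : ∀ v ∈ czer zH, v ≠ 1 → ∀ x : M₂, x⁻¹ * v * x ∈ A → x ∈ A := by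
    intro v hv hv1 x hx
    obtain ⟨σ, hσ, e, hc⟩ := hVrep v hv
    obtain ⟨σ', hσ', e'⟩ := hArep _ hx
    have hσ1 : σ ≠ 1 := fun e0 => hv1 (by subst e0; rw [← e]; exact Subtype.ext (map_one ι))
    obtain ⟨hsq, τ, hτ, hτz⟩ := klein_conj σ hc hσ hσ1
    have hvv : v * v = 1 := by
      rw [← e]; exact Subtype.ext (by
        show ι (1, σ) * ι (1, σ) = 1
        rw [← map_mul, ← map_one ι]; exact congrArg ι (Prod.ext rfl hsq))
    have hwv : x⁻¹ * v * x * (x⁻¹ * v * x) = 1 := by
      rw [show x⁻¹ * v * x * (x⁻¹ * v * x) = x⁻¹ * (v * v) * x by simp [mul_assoc], hvv, mul_one,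
        inv_mul_cancel]
    have hw1 : x⁻¹ * v * x ≠ 1 := fun e0 => hv1 (by
      calc v = x * (x⁻¹ * v * x) * x⁻¹ := by group
        _ = 1 := by rw [e0]; group)
    have hsq' : σ' * σ' = 1 := by
      rw [← e'] at hwv
      exact congrArg Prod.snd (h.inj (show ι ((1, σ') * (1, σ')) = ι 1 by
        rw [map_mul, map_one]; exact congrArg Subtype.val hwv))
    have hσ'1 : σ' ≠ 1 := fun e0 => hw1 (by subst e0; rw [← e']; exact Subtype.ext (map_one ι))
    obtain ⟨-, τ', hτ', hτz'⟩ := klein_conj σ' (even_klein σ' hσ' hsq') hσ' hσ'1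
    have hconj : ∀ ρ hρ π hπ, π * ρ * π⁻¹ = z0 → E π hπ * E ρ hρ * (E π hπ)⁻¹ = zH :=
      fun ρ hρ π hπ h0 => Subtype.ext (by
        show ι (1, π) * ι (1, ρ) * (ι (1, π))⁻¹ = ι (1, z0)
        rw [← map_inv, ← map_mul, ← map_mul, ← h0]; simp)
    have h1 := hconj σ hσ τ hτ hτz
    have h2 := hconj σ' hσ' τ' hτ' hτz'
    rw [e] at h1
    rw [e'] at h2
    set a := E τ hτ
    set b := E τ' hτ'
    have hcz : a * x * b⁻¹ ∈ czer zH := by
      rw [mem_cent]
      calc a * x * b⁻¹ * zH = a * x * b⁻¹ * (b * (x⁻¹ * v * x) * b⁻¹) := by rw [h2]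
        _ = (a * v * a⁻¹) * (a * x * b⁻¹) := by group
        _ = zH * (a * x * b⁻¹) := by rw [h1]
    have := A.mul_mem (A.mul_mem (A.inv_mem (hEA τ hτ)) (hVA hcz)) (hEA τ' hτ')
    rwa [show a⁻¹ * (a * x * b⁻¹) * b = x by group] at this
  have hTout : ∀ x ∉ A, T x ∉ A := fun x hx hT => hx (by
    rw [hTA, hTT] at hT
    exact (hTA x).mpr hT.symm)
  have hcover : ∀ x ∉ A, ∀ x' ∉ A, ∃ v ∈ czer zH, (v * x)⁻¹ * x' ∈ A := by
    intro x hx x' hx'
    let ψ : Option (czer zH) → M₂ ⧸ A := fun o => o.elim ((1 : M₂) : M₂ ⧸ A)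
      fun v => (((v : M₂) * x : M₂) : M₂ ⧸ A)
    have hinj : Function.Injective ψ := by
      have hnone : ∀ v : czer zH, ψ none ≠ ψ (some v) := fun v e => hx (by
        have := QuotientGroup.eq.mp e
        rw [inv_one, one_mul] at this
        exact (A.mul_mem_cancel_left (hVA v.2)).mp this)
      rintro (_ | v) (_ | w) e
      · rfl
      · exact absurd e (hnone w)
      · exact absurd e.symm (hnone v)
      · by_contra hne
        have := QuotientGroup.eq.mp e
        refine hx (hsemi ((v : M₂)⁻¹ * (w : M₂))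
          ((czer zH).mul_mem ((czer zH).inv_mem v.2) w.2)
          (fun e0 => hne (congrArg some (Subtype.ext (inv_mul_eq_one.mp e0)))) x ?_)
        rwa [show x⁻¹ * ((v : M₂)⁻¹ * (w : M₂)) * x = ((v : M₂) * x)⁻¹ * ((w : M₂) * x) by group]
    have hbij : Function.Bijective ψ := (Nat.bijective_iff_injective_and_card ψ).mpr ⟨hinj, by
      rw [Finite.card_option, hVcard]
      have := A.card_mul_index
      rw [hAcard, h60] at this
      show 4 + 1 = A.index
      omega⟩
    obtain ⟨o, ho⟩ := hbij.2 (x' : M₂ ⧸ A)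
    rcases o with _ | v
    · refine absurd ?_ hx'
      have := QuotientGroup.eq.mp ho
      rwa [inv_one, one_mul] at this
    · exact ⟨v, v.2, QuotientGroup.eq.mp ho⟩
  -- the shift is trivial
  have hd : ∀ x : M₂, x⁻¹ * T x ∈ A := by
    intro x
    by_cases hx : x ∈ A
    · rw [(hTA x).mp hx, inv_mul_cancel]; exact A.one_mem
    obtain ⟨w, hw, hwx⟩ := hcover x hx (T x) (hTout x hx)
    obtain ⟨hy1, hy3, hy⟩ := y_facts
    set y := E y0 hy1
    have hyx : y * x ∉ A := fun h' => hx ((A.mul_mem_cancel_left (hEA y0 hy1)).mp h')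
    obtain ⟨v, hv, hvx⟩ := hcover x hx (y * x) hyx
    obtain ⟨σ, hσ, e, hc⟩ := hVrep w hw
    set a := (w * x)⁻¹ * T x with ha
    set c := (v * x)⁻¹ * (y * x) with hc'
    -- compare the two expressions for the image of `y * x`
    have hy' : T (y * x) = y * (w * x * a) := by
      rw [map_mul, (hTA y).mp (hEA y0 hy1), ha]; group
    have hvv : T (y * x) = w * (y * x) * (c⁻¹ * a * c) := by
      rw [show y * x = v * x * c by rw [hc']; group, map_mul, map_mul, (hTA v).mp (hVA hv),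
        (hTA c).mp hvx, show T x = w * x * a by rw [ha]; group]
      rw [show v * (w * x * a) * c = (v * w) * x * a * c by group, hVcomm v hv w hw]; group
    have hyw : y * w * y⁻¹ = w := by
      obtain ⟨hcn, hsn⟩ := alt_normal σ y0 hσ hc
      have hmemV : y * w * y⁻¹ ∈ czer zH := by
        rw [← e]
        convert hEV (y0 * σ * y0⁻¹) hsn hcn using 1
        refine Subtype.ext ?_
        show ι (1, y0) * ι (1, σ) * (ι (1, y0))⁻¹ = ι (1, y0 * σ * y0⁻¹)
        rw [← map_inv, ← map_mul, ← map_mul]; simp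
      by_contra hne
      refine hyx (hsemi (w⁻¹ * (y * w * y⁻¹)) ((czer zH).mul_mem ((czer zH).inv_mem hw) hmemV)
        (fun e0 => hne (inv_mul_eq_one.mp e0).symm) (y * x) ?_)
      rw [show (y * x)⁻¹ * (w⁻¹ * (y * w * y⁻¹)) * (y * x) = (w * (y * x))⁻¹ * (y * (w * x * a)) * a⁻¹ by
        group, ← hy', hvv, show (w * (y * x))⁻¹ * (w * (y * x) * (c⁻¹ * a * c)) * a⁻¹ =
        c⁻¹ * a * c * a⁻¹ by group]
      exact A.mul_mem (A.mul_mem (A.mul_mem (A.inv_mem hvx) hwx) hvx) (A.inv_mem hwx)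
    have hw1 : w = 1 := by
      have e1 : σ * y0 = y0 * σ := by
        have : y * w = w * y := mul_inv_eq_iff_eq_mul.mp hyw
        rw [← e] at this
        exact (congrArg Prod.snd (h.inj (show ι ((1, y0) * (1, σ)) = ι ((1, σ) * (1, y0)) by
          rw [map_mul, map_mul]; exact congrArg Subtype.val this))).symm
      have hs1 := hy σ hc hσ e1
      subst hs1
      rw [← e]; exact Subtype.ext (map_one ι)
    rwa [ha, hw1, one_mul] at hwx
  -- the commutators with `t` lie in the core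
  have hK : ∀ k ∈ A.normalCore, k = 1 := by
    intro k hk
    have hkA : k ∈ A := Subgroup.normalCore_le A hk
    have hVK : ∀ v ∈ czer zH, v ∈ A.normalCore → v = 1 := by
      intro v hv hvK
      by_contra hv1
      have htop : (⊤ : Subgroup M₂) ≤ A := fun x _ => hsemi v hv hv1 x (by
        have := Subgroup.normalCore_le A
          ((inferInstance : (A.normalCore).Normal).conj_mem v hvK x⁻¹)
        rwa [inv_inv] at this)
      have := Subgroup.card_dvd_of_le htop
      rw [Subgroup.card_top, h60, hAcard] at this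
      omega
    obtain ⟨σ, hσ, e⟩ := hArep k hkA
    have hcomm : k * zH * k⁻¹ * zH⁻¹ = 1 := by
      refine hVK _ ((czer zH).mul_mem ?_ ((czer zH).inv_mem (self_mem_cent zH))) ?_
      · obtain ⟨hcn, hsn⟩ := alt_normal z0 σ z0_sign rfl
        rw [← e]
        convert hEV (σ * z0 * σ⁻¹) hsn hcn using 1
        refine Subtype.ext ?_
        show ι (1, σ) * ι (1, z0) * (ι (1, σ))⁻¹ = ι (1, σ * z0 * σ⁻¹)
        rw [← map_inv, ← map_mul, ← map_mul]; simp
      · rw [show k * zH * k⁻¹ * zH⁻¹ = k * (zH * k⁻¹ * zH⁻¹) by group]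
        exact A.normalCore.mul_mem hk
          ((inferInstance : (A.normalCore).Normal).conj_mem _ (A.normalCore.inv_mem hk) zH)
    exact hVK k (mem_cent.mpr (commutatorElement_eq_one_iff_mul_comm.mp hcomm)) hk
  have hfix : ∀ g : M₂, T g = g := by
    intro g
    have : g⁻¹ * T g ∈ A.normalCore := by
      intro x
      have := A.mul_mem (hd (g * x⁻¹)) (A.inv_mem (hd x⁻¹))
      rwa [map_mul, show (g * x⁻¹)⁻¹ * (T g * T x⁻¹) * ((x⁻¹)⁻¹ * T x⁻¹)⁻¹ = x * (g⁻¹ * T g) * x⁻¹ by
        group] at this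
    exact (inv_mul_eq_one.mp (hK _ this)).symm
  have hsub : M₂ ≤ czer t := fun x hx => mem_cent.mpr ((hAmem ⟨x, hx⟩).mp ((hTA _).mpr (hfix _)))
  have := Subgroup.card_dvd_of_le hsub
  rw [h60, ht, h.card_cent_t] at this
  omega

/-- The soluble conclusion. -/
theorem Base.of_twelve (h : Base ι) (M₂ : Subgroup G) (hi4 : M₂.index = 4)
    (h12 : Nat.card M₂ = 12) :
    czer (ι (cc, 1)) = ⊤ ∧ Group.IsSolvable G := by
  have hG : Nat.card G = 48 := by rw [← M₂.card_mul_index, h12, hi4]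
  refine ⟨Subgroup.eq_top_of_card_eq _ (by rw [h.card_cent_t, hG]), ?_⟩
  have hsurj : Function.Surjective ι :=
    ((Nat.bijective_iff_injective_and_card ι).mpr ⟨h.inj, by rw [card_mdl, hG]⟩).2
  haveI := CfsgLib.SmallPerm.isSolvable_perm_fin_four
  haveI : Group.IsSolvable (Multiplicative (ZMod 2)) :=
    Group.isSolvable_of_comm fun a b => mul_comm a b
  exact Group.isSolvable_of_surjective hsurj

end CfsgLib.TwoSymFour
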