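import Cfsg.Agent.Lib.TwoSymFour.Base
import Cfsg.Agent.Lib.TwoSymFour.Cent

/-!
# The two cases for the subgroup of index two
-/

set_option autoImplicit false
set_option linter.style.haveILetI false
set_option linter.unusedSectionVars false

namespace CfsgLib.TwoSymFour

open CfsgLib.BSW

variable {G : Type*} [Group G] [Finite G] {ι : Mdl →* G}

/-- The embedding of a subgroup of `1 × S₄`. -/
def embed (ι : Mdl →* G) {D : Type*} [Group D] (f : D → Equiv.Perm (Fin 4))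
    (hmul : ∀ a b, f (a * b) = f a * f b) (H : Subgroup G) (hH : ∀ d, ι (1, f d) ∈ H) : D →* H :=
  MonoidHom.mk' (fun d => ⟨ι (1, f d), hH d⟩) fun a b =>
    Subtype.ext (by show ι (1, f (a * b)) = ι (1, f a) * ι (1, f b); rw [← map_mul, hmul]; simp)

/-- A subgroup of 2-power index in which the centraliser of `z` is a Sylow subgroup. -/
theorem Base.sylow_sub (h : Base ι) (H : Subgroup G) (k : ℕ) (hk : k ≤ 4)
    (hH : H.index = 2 ^ k) (hz : ι (1, z0) ∈ H) {D : Type*} [Group D] [Finite D]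
    (f : D → Equiv.Perm (Fin 4)) (hmul : ∀ a b, f (a * b) = f a * f b)
    (hinj : ∀ a b, f a = f b → a = b)
    (hmem : ∀ p, (ι p ∈ H ∧ p * (1, z0) = (1, z0) * p) ↔ ∃ d, ((1, f d) : Mdl) = p)
    (hD : 2 ^ k * Nat.card D = 16) :
    ∃ S : Sylow 2 H, (S : Subgroup H) = czer (⟨ι (1, z0), hz⟩ : H) ∧
      Nonempty ((S : Subgroup H) ≃* D) := by
  haveI := Fact.mk Nat.prime_two
  set zH : H := ⟨ι (1, z0), hz⟩ with hzH
  let φ : D →* H := embed ι f hmul H fun d => ((hmem _).mpr ⟨d, rfl⟩).1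
  have hφ : Function.Injective φ := fun a b e =>
    hinj _ _ (congrArg Prod.snd (h.inj (congrArg Subtype.val e)))
  have hr : φ.range = czer zH := by
    ext ⟨x, hx⟩
    rw [mem_cent]
    constructor
    · rintro ⟨d, hd⟩
      rw [← hd]
      exact Subtype.ext ((h.comm_iff _ _).mpr ((hmem _).mpr ⟨d, rfl⟩).2)
    · intro e
      have e' := congrArg Subtype.val e
      obtain ⟨p, rfl⟩ := h.centz x e'
      obtain ⟨d, hd⟩ := (hmem p).mp ⟨hx, (h.comm_iff _ _).mp e'⟩
      exact ⟨d, Subtype.ext (congrArg ι hd)⟩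
  have hc : Nat.card (czer zH) = Nat.card D := by
    rw [← hr, Nat.card_congr (MonoidHom.ofInjective hφ).toEquiv]
  obtain ⟨j, -, hj⟩ : ∃ j ≤ 4, Nat.card D = 2 ^ j :=
    (Nat.dvd_prime_pow Nat.prime_two).mp ⟨2 ^ k, by rw [mul_comm, hD]; rfl⟩
  set P := Sylow.ofCard (czer (ι (1, z0))) (by
    rw [h.card_cent_z, ← Sylow.card_eq_multiplicity (default : Sylow 2 G), h.syl]) with hP
  have hodd : ¬ 2 ∣ (czer zH).index := by
    have e1 := (czer zH).card_mul_index
    have e2 := (P : Subgroup G).card_mul_index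
    have e3 := H.card_mul_index
    rw [Sylow.coe_ofCard, h.card_cent_z] at e2
    rw [hc] at e1
    rw [hH, ← e1, ← e2, mul_comm, ← mul_assoc, hD] at e3
    have h2 := P.not_dvd_index
    rw [Sylow.coe_ofCard] at h2
    rw [Nat.eq_of_mul_eq_mul_left (by norm_num) e3]
    exact h2
  refine ⟨(IsPGroup.of_card (hc.trans hj)).toSylow hodd, rfl, ⟨?_⟩⟩
  exact (MulEquiv.subgroupCongr hr.symm).trans (MonoidHom.ofInjective hφ).symm

theorem u0_comm : ((1, u0) : Mdl) * (1, z0) = (1, z0) * (1, u0) := by decide +kernel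

theorem z0_sign : Equiv.Perm.sign z0 = 1 := by decide +kernel

theorem u0_sq : ((1, u0) : Mdl) * (1, u0) = 1 := by decide +kernel

theorem u0_ne : ((1, u0) : Mdl) ≠ 1 := by decide +kernel

theorem u0_sign : Equiv.Perm.sign u0 = -1 ∧ (-1 : ℤˣ) ≠ 1 := by decide +kernel

theorem sign_cases : ∀ σ : Equiv.Perm (Fin 4), Equiv.Perm.sign σ = 1 ∨ Equiv.Perm.sign σ = -1 :=
  fun σ => Int.units_eq_one_or _

/-- The two cases. -/
theorem Base.split (h : Base ι) (M : Subgroup G) (hM : M.Normal) (hidx : M.index = 2)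
    (hmem : ∀ p, ι p ∈ M ↔ p.1 = 1) :
    (IsSimpleGroup M ∧ (Nat.card M = 168 ∨ Nat.card M = 360) ∧
      ∀ x ∈ M, orderOf x = 2 → IsConj (ι (1, z0)) x) ∨
      ∃ M₂ : Subgroup G, M₂ ≤ M ∧ (M₂.subgroupOf M).Normal ∧ M₂.index = 4 ∧
        (∀ σ, ι (1, σ) ∈ M₂ ↔ Equiv.Perm.sign σ = 1) ∧ (Nat.card M₂ = 12 ∨ Nat.card M₂ = 60) := by
  classical
  haveI := Fact.mk Nat.prime_two
  have hzM : ι (1, z0) ∈ M := (hmem _).mpr rfl
  have huM : ι (1, u0) ∈ M := (hmem _).mpr rfl
  set zM : M := ⟨ι (1, z0), hzM⟩ with hzMdef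
  set uM : M := ⟨ι (1, u0), huM⟩ with huMdef
  have hord : ∀ p : Mdl, p * p = 1 → p ≠ 1 → orderOf (ι p) = 2 := fun p hp hp1 =>
    orderOf_two_iff.mpr ⟨by rw [← map_mul, hp, map_one], fun e => hp1 (h.inj (e.trans (map_one ι).symm))⟩
  have hz2 : orderOf zM = 2 := by
    rw [← Subgroup.orderOf_coe]; exact hord _ z_facts.1 z_facts.2.1
  obtain ⟨S, hS, ⟨e⟩⟩ := h.sylow_sub M 1 (by omega) hidx hzM fd fd_mul fd_inj (fun p => by
      constructor
      · rintro ⟨h1, h2⟩
        obtain ⟨d, hd⟩ := (fd_range p.2).mp (congrArg Prod.snd h2)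
        exact ⟨d, Prod.ext ((hmem p).mp h1).symm hd⟩
      · rintro ⟨d, rfl⟩
        exact ⟨(hmem _).mpr rfl, Prod.ext rfl ((fd_range _).mpr ⟨d, rfl⟩)⟩) (by
      rw [DihedralGroup.nat_card]; norm_num)
  by_cases hA : IsConj zM uM
  · left
    have hconj : ∀ x y : M, orderOf x = 2 → orderOf y = 2 → IsConj x y := by
      refine conj_of_sylow_cent S hS fun x hx hx2 => ?_
      obtain ⟨⟨a, σ⟩, hp⟩ := h.centz x.1 (congrArg Subtype.val (mem_cent.mp hx))
      have ha : a = 1 := (hmem (a, σ)).mp (hp ▸ x.2)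
      subst ha
      obtain ⟨hxx, hx1⟩ := orderOf_two_iff.mp hx2
      have hsq : σ * σ = 1 := congrArg Prod.snd (h.inj (show ι (((1, σ) : Mdl) * (1, σ)) = ι 1 by
        rw [map_mul, hp, map_one]; exact congrArg Subtype.val hxx))
      have hσ1 : σ ≠ 1 := fun e1 => hx1 (Subtype.ext (by
        rw [← hp, e1]; exact map_one ι))
      have hcz : σ * z0 = z0 * σ := congrArg Prod.snd ((h.comm_iff (1, σ) (1, z0)).mp (by
        rw [hp]; exact congrArg Subtype.val (mem_cent.mp hx)))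
      obtain ⟨τ, hτ⟩ := involution_sq σ hcz hsq hσ1
      have key : ∀ σ' : Equiv.Perm (Fin 4), τ * σ * τ⁻¹ = σ' →
          IsConj x ⟨ι (1, σ'), (hmem _).mpr rfl⟩ := by
        intro σ' e'
        refine isConj_iff.mpr ⟨⟨ι (1, τ), (hmem _).mpr rfl⟩, Subtype.ext ?_⟩
        show ι (1, τ) * (x : G) * (ι (1, τ))⁻¹ = ι (1, σ')
        rw [← hp, ← map_inv, ← map_mul, ← map_mul, ← e']; simp
      rcases hτ with hτ | hτ
      exacts [(key _ hτ).symm, hA.trans (key _ hτ).symm]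
    haveI : Nontrivial M := ⟨zM, 1, fun e1 => (orderOf_two_iff.mp hz2).2 e1⟩
    refine ⟨isSimple_of_dihedral_cent hz2 S hS e hconj, ?_, fun x hx hx2 => ?_⟩
    · rcases order_of_dihedral_cent (by norm_num) hz2 S hS e hconj with hc | hc <;> norm_num at hc
      · exact Or.inr hc
      · exact Or.inl hc
    · obtain ⟨c, hc⟩ := isConj_iff.mp (hconj zM ⟨x, hx⟩ hz2 (by rw [← Subgroup.orderOf_coe]; exact hx2))
      exact isConj_iff.mpr ⟨c, congrArg Subtype.val hc⟩
  · right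
    set Q : Subgroup M := (((MonoidHom.fst (Multiplicative (ZMod 2)) (Equiv.Perm (Fin 4))).ker ⊓
      (Equiv.Perm.sign.comp (MonoidHom.snd (Multiplicative (ZMod 2)) (Equiv.Perm (Fin 4)))).ker).map
        ι).subgroupOf M ⊓ czer zM with hQ
    have hQmem : ∀ p (hp : ι p ∈ M), (⟨ι p, hp⟩ : M) ∈ Q ↔
        p.1 = 1 ∧ Equiv.Perm.sign p.2 = 1 ∧ p * (1, z0) = (1, z0) * p := by
      intro p hp
      rw [hQ, Subgroup.mem_inf, Subgroup.mem_subgroupOf, Subgroup.mem_map_iff_mem h.inj, mem_cent,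
        ← (h.comm_iff p (1, z0))]
      simp only [Subgroup.mem_inf, MonoidHom.mem_ker, MonoidHom.coe_fst, MonoidHom.comp_apply,
        MonoidHom.coe_snd, Subtype.ext_iff, Subgroup.coe_mul, hzMdef]
      exact and_assoc
    have hQi : Q.relIndex (S : Subgroup M) = 2 := by
      have hu : uM ∈ (S : Subgroup M) := by
        rw [hS]; exact mem_cent.mpr (Subtype.ext ((h.comm_iff _ _).mpr u0_comm))
      have huQ : uM ∉ Q := by rw [huMdef, hQmem]; exact fun h' => u0_sign.2 (u0_sign.1.symm.trans h'.2.1)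
      show (Q.subgroupOf (S : Subgroup M)).index = 2
      rw [Subgroup.index_eq_two_iff]
      refine ⟨⟨uM, hu⟩, fun b => ?_⟩
      have hb : (b : M) ∈ czer zM := hS ▸ b.2
      obtain ⟨⟨a, σ⟩, hp⟩ := h.centz _ (congrArg Subtype.val (mem_cent.mp hb))
      have ha : a = 1 := (hmem (a, σ)).mp (hp ▸ (b : M).2)
      subst ha
      have hcz : ((1, σ) : Mdl) * (1, z0) = (1, z0) * (1, σ) := (h.comm_iff _ _).mp (by
        rw [hp]; exact congrArg Subtype.val (mem_cent.mp hb))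
      have e1 : (b : M) = ⟨ι (1, σ), (hmem _).mpr rfl⟩ := Subtype.ext hp.symm
      have e2 : (b : M) * uM = ⟨ι (1, σ * u0), (hmem _).mpr rfl⟩ := Subtype.ext (by
        rw [Subgroup.coe_mul, ← hp, huMdef, ← map_mul]; simp)
      have hczu : ((1, σ * u0) : Mdl) * (1, z0) = (1, z0) * (1, σ * u0) := by
        rw [show ((1, σ * u0) : Mdl) = (1, σ) * (1, u0) by simp, mul_assoc, u0_comm, ← mul_assoc, hcz,
          mul_assoc]
      simp only [Subgroup.mem_subgroupOf, Subgroup.coe_mul]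
      rw [e2, e1, hQmem, hQmem, map_mul]
      rcases sign_cases σ with hs | hs
      · exact Or.inr ⟨⟨rfl, hs, hcz⟩, fun h' => by
          rw [hs, u0_sign.1, one_mul] at h'; exact u0_sign.2 h'.2.1⟩
      · exact Or.inl ⟨⟨rfl, by rw [hs, u0_sign.1]; simp, hczu⟩, fun h' => by
          rw [hs] at h'; exact u0_sign.2 h'.2.1⟩
    obtain ⟨N, hN, hNi, huN⟩ := (Transfer.thompson_transfer S hQi (u := uM)
      (Subtype.ext (by rw [Subgroup.coe_mul, huMdef, ← map_mul]
                       exact (congrArg ι u0_sq).trans (map_one ι)))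
      (by rw [hS]; exact mem_cent.mpr (Subtype.ext ((h.comm_iff _ _).mpr u0_comm)))
      (by rw [huMdef, hQmem]; exact fun h' => u0_sign.2 (u0_sign.1.symm.trans h'.2.1))).resolve_right (by
        rintro ⟨g, hgS, hgQ⟩
        have hcm : g * uM * g⁻¹ ∈ czer zM := hS ▸ hgS
        obtain ⟨⟨a, σ⟩, hp⟩ := h.centz _ (congrArg Subtype.val (mem_cent.mp hcm))
        have e1 : g * uM * g⁻¹ = ⟨ι (a, σ), hp ▸ (g * uM * g⁻¹).2⟩ := Subtype.ext hp.symm
        rw [e1, hQmem] at hgQ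
        obtain ⟨ha, hsg, hcz⟩ := hgQ
        change a = 1 at ha
        subst ha
        have hσ1 : σ ≠ 1 := by
          intro e0
          subst e0
          have h1 : (g * uM * g⁻¹ : M) = 1 := Subtype.ext (hp.symm.trans (map_one ι))
          have h2 := conj_eq_one_iff.mp h1
          exact u0_ne
            (h.inj ((congrArg Subtype.val h2).trans (map_one ι).symm))
        obtain ⟨-, τ, hτ, e0⟩ := klein_conj σ (congrArg Prod.snd hcz) hsg hσ1
        refine hA ((isConj_iff.mpr ⟨⟨ι (1, τ), (hmem _).mpr rfl⟩, Subtype.ext ?_⟩ :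
          IsConj (g * uM * g⁻¹) zM).symm.trans (isConj_iff.mpr ⟨g, rfl⟩ : IsConj uM (g * uM * g⁻¹)).symm)
        show ι (1, τ) * ((g * uM * g⁻¹ : M) : G) * (ι (1, τ))⁻¹ = ι (1, z0)
        rw [← hp, ← map_inv, ← map_mul, ← map_mul, ← e0]; simp)
    set M₂ := N.map M.subtype with hM₂
    have hle : M₂ ≤ M := Subgroup.map_subtype_le N
    have hsub : M₂.subgroupOf M = N := Subgroup.comap_map_eq_self_of_injective M.subtype_injective N
    have hM₂mem : ∀ σ, ι (1, σ) ∈ M₂ ↔ Equiv.Perm.sign σ = 1 := by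
      intro σ
      have hiff : ∀ σ, ι (1, σ) ∈ M₂ ↔ (⟨ι (1, σ), (hmem _).mpr rfl⟩ : M) ∈ N := fun σ => by
        rw [← hsub, Subgroup.mem_subgroupOf]
      rw [hiff]
      induction σ using Equiv.Perm.swap_induction_on with
      | one =>
        have e0 : (⟨ι (1, 1), (hmem _).mpr rfl⟩ : M) = 1 := Subtype.ext (map_one ι)
        rw [e0, map_one]
        exact iff_of_true N.one_mem rfl
      | swap_mul f a b hab ih =>
        obtain ⟨g, hg⟩ := isConj_iff.mp (Equiv.Perm.isConj_swap (show (0 : Fin 4) ≠ 1 by decide) hab)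
        have hout : (⟨ι (1, Equiv.swap a b), (hmem _).mpr rfl⟩ : M) ∉ N := by
          intro hin
          apply huN
          have e1 : uM = (⟨ι (1, g), (hmem _).mpr rfl⟩ : M)⁻¹ * ⟨ι (1, Equiv.swap a b), (hmem _).mpr rfl⟩ *
              ⟨ι (1, g), (hmem _).mpr rfl⟩ := Subtype.ext (by
            show ι (1, u0) = (ι (1, g))⁻¹ * ι (1, Equiv.swap a b) * ι (1, g)
            rw [← map_inv, ← map_mul, ← map_mul, ← hg]; simp [u0, mul_assoc])
          rw [e1]
          exact hN.conj_mem' _ hin _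
        have e2 : (⟨ι (1, Equiv.swap a b * f), (hmem _).mpr rfl⟩ : M) =
            ⟨ι (1, Equiv.swap a b), (hmem _).mpr rfl⟩ * ⟨ι (1, f), (hmem _).mpr rfl⟩ :=
          Subtype.ext (by rw [Subgroup.coe_mul, ← map_mul]; simp)
        rw [e2, Subgroup.mul_mem_iff_of_index_two hNi, map_mul, Equiv.Perm.sign_swap hab]
        rcases sign_cases f with hs | hs
        · exact iff_of_false (fun h' => hout (h'.mpr (ih.mpr hs))) (by rw [hs]; simpa using u0_sign.2)
        · exact iff_of_true (iff_of_false hout fun h' => u0_sign.2 (hs.symm.trans (ih.mp h'))) (by rw [hs]; simp)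
    have hidx4 : M₂.index = 4 := by
      have := Subgroup.relIndex_mul_index hle
      rw [Subgroup.relIndex, hsub, hNi, hidx] at this
      omega
    refine ⟨M₂, hle, hsub ▸ hN, hidx4, hM₂mem, ?_⟩
    have hz₂ : ι (1, z0) ∈ M₂ := (hM₂mem z0).mpr (z0_sign)
    obtain ⟨S₂, hS₂, ⟨e₂⟩⟩ := h.sylow_sub M₂ 2 (by omega) hidx4 hz₂ fv fv_mul fv_inj (fun p => by
        constructor
        · rintro ⟨h1, h2⟩
          obtain ⟨a, σ⟩ := p
          obtain rfl : a = 1 := (hmem (a, σ)).mp (hle h1)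
          obtain ⟨d, hd⟩ := (fv_range σ).mp ⟨congrArg Prod.snd h2, (hM₂mem σ).mp h1⟩
          exact ⟨d, Prod.ext rfl hd⟩
        · rintro ⟨d, rfl⟩
          obtain ⟨h1, h2⟩ := (fv_range _).mpr ⟨d, rfl⟩
          exact ⟨(hM₂mem _).mpr h2, Prod.ext rfl h1⟩) (by
        rw [DihedralGroup.nat_card]; norm_num)
    have hz2' : orderOf (⟨ι (1, z0), hz₂⟩ : M₂) = 2 := by
      rw [← Subgroup.orderOf_coe]; exact hord _ z_facts.1 z_facts.2.1
    have hconj₂ : ∀ x y : M₂, orderOf x = 2 → orderOf y = 2 → IsConj x y := by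
      refine conj_of_sylow_cent S₂ hS₂ fun x hx hx2 => ?_
      obtain ⟨⟨a, σ⟩, hp⟩ := h.centz x.1 (congrArg Subtype.val (mem_cent.mp hx))
      have ha : a = 1 := (hmem (a, σ)).mp (hle (hp ▸ x.2))
      subst ha
      have hs : Equiv.Perm.sign σ = 1 := (hM₂mem σ).mp (hp ▸ x.2)
      have hσ1 : σ ≠ 1 := fun e1 => (orderOf_two_iff.mp hx2).2 (Subtype.ext (by
        rw [← hp, e1]; exact map_one ι))
      have hcz : σ * z0 = z0 * σ := congrArg Prod.snd ((h.comm_iff (1, σ) (1, z0)).mp (by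
        rw [hp]; exact congrArg Subtype.val (mem_cent.mp hx)))
      obtain ⟨-, τ, hτ, e0⟩ := klein_conj σ hcz hs hσ1
      refine (isConj_iff.mpr ⟨⟨ι (1, τ), (hM₂mem τ).mpr hτ⟩, Subtype.ext ?_⟩ : IsConj x _).symm
      show ι (1, τ) * (x : G) * (ι (1, τ))⁻¹ = ι (1, z0)
      rw [← hp, ← map_inv, ← map_mul, ← map_mul, ← e0]; simp
    rcases order_of_dihedral_cent le_rfl hz2' S₂ hS₂ e₂ hconj₂ with hc | hc <;> norm_num at hc
    · exact Or.inr hc
    · exact Or.inl hc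

end CfsgLib.TwoSymFour
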